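import Cfsg.Agent.H40.PV.Two
import Cfsg.Agent.H115.HC.GTwo
import Cfsg.Agent.H620.PNorm

/-!
# `G₂(q)`, `p ∣ q² - 1`, in characteristic different from 3 (helper40, S4555 / S4559)
-/

set_option autoImplicit false
set_option linter.unusedSectionVars false

open Cfsg

namespace Cfsg.Agent.H40.PV.GT

open CoxeterSystem Cfsg.Agent.ChevalleyStructure.CoxeterGeom Cfsg.Agent.Tits.Roots Cfsg.Agent.Tits.Core
  Cfsg.Agent.Nodes.Reps Cfsg.Agent.Nodes.BNOf Cfsg.Agent.Nodes.Bruhat Cfsg.Agent.Nodes.LeviDec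
open Cfsg.Lie Cfsg.Agent.ChevalleyStructure Cfsg.Agent.ChevalleyStructure.Elts
  Cfsg.Agent.ChevalleyStructure.RootVec Cfsg.Agent.ChevalleyStructure.RootVecTab
  Cfsg.Agent.ChevalleyStructure.NPerm Cfsg.Agent.ChevalleyStructure.CoxeterGeomTypes
open Cfsg.Agent.Nodes.RGDChev Cfsg.Agent.H35.ExcIdx Cfsg.Agent.H35.PoinNum Cfsg.Agent.H115.HC
  Cfsg.Agent.H115.HC.GTwo Cfsg.Agent.KFacts.RgdDiag
open scoped commutatorElement

universe u

/-- the Coxeter system -/
noncomputable abbrev cs := CoxeterMatrix.G₂.toCoxeterSystem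

variable {K : Type u} [Field K]

/-- the root elements -/
noncomputable def xx (K : Type u) [Field K] (r : ℕ) (t : K) : ↥(chevG2.group K) :=
  ⟨xG hpG2.inList r t, xG_mem_group hpG2.inList r t⟩

theorem xx_add (r : ℕ) (s t : K) : xx K r s * xx K r t = xx K r (s + t) :=
  Subtype.ext (xG_add hpG2.inList r s t)

theorem xx_zero (r : ℕ) : xx K r 0 = 1 := Subtype.ext (xG_zero hpG2.inList r)

theorem xx_inj {r : ℕ} (hr : r < chevG2.nroots) {s t : K} (h : xx K r s = xx K r t) : s = t :=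
  xG_injective hpG2.inList hr (congrArg Subtype.val h)

theorem xx_ne_one {r : ℕ} (hr : r < chevG2.nroots) {t : K} (ht : t ≠ 0) : xx K r t ≠ 1 := fun h =>
  ht (xx_inj hr (h.trans (xx_zero r).symm))

theorem XX_iff {r : ℕ} (hr : r < chevG2.nroots) {x : Fin 2 → ℤ} (hx : vec chevG2 2 r = x) {u : ↥(chevG2.group K)} :
    u ∈ XX chevG2 2 K x ↔ ∃ t : K, u = xx K r t := mem_XX hr hx

theorem nroots_eq : chevG2.nroots = 12 := by decide +kernel

theorem vec_sr : vec chevG2 2 7 = sr 0 ∧ vec chevG2 2 6 = sr 1 ∧ vec chevG2 2 5 = -sr 1 ∧ vec chevG2 2 4 = -sr 0 := by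
  refine ⟨?_, ?_, ?_, ?_⟩ <;> (funext i; revert i; decide +kernel)

theorem vec_eqs : (vec chevG2 2 8 = ![1, 1] ∧ vec chevG2 2 9 = ![2, 1]) ∧ vec chevG2 2 10 = ![3, 1] ∧
    vec chevG2 2 11 = ![3, 2] := by
  refine ⟨⟨?_, ?_⟩, ?_, ?_⟩ <;> (funext i; revert i; decide +kernel)

/-- the short roots -/
def SH : List ℕ := [7, 8, 9, 4, 3, 2]

/-- the long roots -/
def LO : List ℕ := [6, 10, 11, 5, 1, 0]

theorem closed_short : ∀ r ∈ SH, (∃ r' ∈ SH, ∀ k : Fin 2, vec chevG2 2 r' k =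
      (![-vec chevG2 2 r 0 - cartanOf chevG2 2 0 1 * vec chevG2 2 r 1, vec chevG2 2 r 1] : Fin 2 → ℤ) k) ∧
    ∃ r' ∈ SH, ∀ k : Fin 2, vec chevG2 2 r' k =
      (![vec chevG2 2 r 0, -cartanOf chevG2 2 1 0 * vec chevG2 2 r 0 - vec chevG2 2 r 1] : Fin 2 → ℤ) k := by
  decide +kernel

theorem closed_long : ∀ r ∈ LO, (∃ r' ∈ LO, ∀ k : Fin 2, vec chevG2 2 r' k =
      (![-vec chevG2 2 r 0 - cartanOf chevG2 2 0 1 * vec chevG2 2 r 1, vec chevG2 2 r 1] : Fin 2 → ℤ) k) ∧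
    ∃ r' ∈ LO, ∀ k : Fin 2, vec chevG2 2 r' k =
      (![vec chevG2 2 r 0, -cartanOf chevG2 2 1 0 * vec chevG2 2 r 0 - vec chevG2 2 r 1] : Fin 2 → ℤ) k := by
  decide +kernel

theorem orbit_of {L : List ℕ} {i : Fin 2} (h0 : ∃ r ∈ L, vec chevG2 2 r = sr i)
    (hL : ∀ r ∈ L, (∃ r' ∈ L, ∀ k : Fin 2, vec chevG2 2 r' k =
      (![-vec chevG2 2 r 0 - cartanOf chevG2 2 0 1 * vec chevG2 2 r 1, vec chevG2 2 r 1] : Fin 2 → ℤ) k) ∧
    ∃ r' ∈ L, ∀ k : Fin 2, vec chevG2 2 r' k =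
      (![vec chevG2 2 r 0, -cartanOf chevG2 2 1 0 * vec chevG2 2 r 0 - vec chevG2 2 r 1] : Fin 2 → ℤ) k)
    (w : CoxeterMatrix.G₂.Group) : ∃ r ∈ L, vec chevG2 2 r = rep cs hpG2.isCartan w (sr i) := by
  obtain ⟨ω, rfl⟩ := cs.wordProd_surjective w
  induction ω with
  | nil =>
    rw [wordProd_nil, map_one, Module.End.one_apply]
    exact h0
  | cons j ω ih =>
    obtain ⟨r, hr, e⟩ := ih
    rw [wordProd_cons, rep_mul_apply, ← e]
    obtain ⟨⟨r₁, hr₁, e₁⟩, r₂, hr₂, e₂⟩ := hL r hr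
    have hj : j = 0 ∨ j = 1 := by
      fin_cases j
      · exact Or.inl rfl
      · exact Or.inr rfl
    rcases hj with rfl | rfl
    · exact ⟨r₁, hr₁, by rw [rep_zero]; exact funext e₁⟩
    · exact ⟨r₂, hr₂, by rw [rep_one]; exact funext e₂⟩

theorem orbit_short (w : CoxeterMatrix.G₂.Group) : ∃ r ∈ SH, vec chevG2 2 r = rep cs hpG2.isCartan w (sr 0) :=
  orbit_of ⟨7, by decide, vec_sr.1⟩ closed_short w

theorem orbit_long (w : CoxeterMatrix.G₂.Group) : ∃ r ∈ LO, vec chevG2 2 r = rep cs hpG2.isCartan w (sr 1) :=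
  orbit_of ⟨6, by decide, vec_sr.2.1⟩ closed_long w

theorem sep : ∀ r ∈ LO, ∃ k : Fin 2, vec chevG2 2 r k ≠ vec chevG2 2 7 k := by decide +kernel

/-- the nodes are not conjugate -/
theorem long_ne_short (w : CoxeterMatrix.G₂.Group) : rep cs hpG2.isCartan w (sr 1) ≠ sr 0 := by
  intro h
  obtain ⟨r, hr, e⟩ := orbit_long w
  obtain ⟨k, hk⟩ := sep r hr
  exact hk (by rw [e, h, vec_sr.1])

theorem rank_lt : ∀ r ∈ SH, r < chevG2.nroots := by decide +kernel

theorem rank_lt' : ∀ r ∈ LO, r < chevG2.nroots := by decide +kernel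

theorem cart_short : ∀ r ∈ SH, (chevG2.cartan 0 r = 1 ∨ chevG2.cartan 0 r = -1) ∨
    chevG2.cartan 0 r = 2 ∨ chevG2.cartan 0 r = -2 := by decide +kernel

theorem zpow_ne_one_of {c : K} (hc : c ≠ 0) (hc2 : c ^ 2 ≠ 1) {z : ℤ} (hz : (z = 1 ∨ z = -1) ∨ z = 2 ∨ z = -2) :
    c ^ z ≠ 1 := by
  have hc1 : c ≠ 1 := by
    rintro rfl
    exact hc2 (one_pow 2)
  rcases hz with (rfl | rfl) | rfl | rfl
  · rwa [zpow_one]
  · rw [zpow_neg, zpow_one]
    exact fun h => hc1 (inv_eq_one.1 h)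
  · exact_mod_cast hc2
  · rw [zpow_neg]
    intro h
    have h1 := inv_eq_one.1 h
    exact hc2 (by exact_mod_cast h1)

theorem hh_pow (i : Fin 2) {c : K} (hc : c ≠ 0) (k : ℕ) : hh K i c ^ k = hh K i (c ^ k) := by
  induction k with
  | zero => rw [pow_zero, pow_zero, hh_one]
  | succ k ih => rw [pow_succ, ih, hh_mul i (pow_ne_zero _ hc) hc, ← pow_succ]

/-- `SL_2` of a node -/
theorem exists_sl2 (K : Type u) [Field K] (i : Fin 2) :
    ∃ φ : Matrix.SpecialLinearGroup (Fin 2) K →* ↥(chevG2.group K),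
      (∀ t, φ (up' t) = xx K (chevG2.simple i) t) ∧ ∀ t, φ (lo' t) = xx K (chevG2.neg (chevG2.simple i)) t := by
  have h := simple_lt hpG2.inList (lt_rank hpG2 i)
  obtain ⟨φ, hr, hφ'⟩ := Cfsg.Agent.S1030.result (F := K) chevG2 hpG2.inList (chevG2.simple i) h
  have hu : ∀ t, φ (up' t) = xG hpG2.inList (chevG2.simple i) t := fun t => Units.ext ((hφ' (up' t) t).1 rfl)
  have hv : ∀ t, φ (lo' t) = xG hpG2.inList (chevG2.neg (chevG2.simple i)) t := fun t =>
    Units.ext ((hφ' (lo' t) t).2 rfl)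
  have hmem : ∀ B, φ B ∈ chevG2.group K := by
    have h1 : φ.range ≤ chevG2.group K := by
      rw [hr]
      refine sup_le ?_ ?_
      · intro u hu
        obtain ⟨t, rfl⟩ := (mem_rootSubgroup_iff hpG2.inList _ _).1 hu
        exact xG_mem_group hpG2.inList _ t
      · intro u hu
        obtain ⟨t, rfl⟩ := (mem_rootSubgroup_iff hpG2.inList _ _).1 hu
        exact xG_mem_group hpG2.inList _ t
    exact fun B => h1 ⟨B, rfl⟩
  exact ⟨φ.codRestrict _ hmem, fun t => Subtype.ext (hu t), fun t => Subtype.ext (hv t)⟩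

theorem simple_eq : chevG2.simple (1 : Fin 2) = 6 ∧ chevG2.neg (chevG2.simple (1 : Fin 2)) = 5 ∧
    chevG2.simple (0 : Fin 2) = 7 ∧ chevG2.neg (chevG2.simple (0 : Fin 2)) = 4 := by decide +kernel

theorem cm : chevG2.commTerms 8 9 = [(11, 3, 1, 1)] ∧ chevG2.commTerms 10 11 = [] ∧ 8 < chevG2.nroots ∧
    9 < chevG2.nroots ∧ 10 < chevG2.nroots ∧ 11 < chevG2.nroots ∧ 9 ≠ chevG2.neg 8 ∧ 11 ≠ chevG2.neg 10 := by
  decide +kernel

/-- the short root groups of `α_0 + α_1` and `2 α_0 + α_1` do not commute in characteristic different from 3 -/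
theorem not_comm (h3 : (3 : K) ≠ 0) {s t : K} (hs : s ≠ 0) (ht : t ≠ 0) :
    xx K 8 s * xx K 9 t ≠ xx K 9 t * xx K 8 s := by
  intro hcm
  obtain ⟨c1, -, g8, g9, -, g11, n1, -⟩ := cm
  have h1 := comm_xG hpG2 (K := K) g8 g9 (by decide) n1 s t
  have h2 : chevG2.commWord K 8 9 s t = [(11, 3 * (-s) * t)] := by
    change (chevG2.commTerms 8 9).map _ = _
    rw [c1]
    simp
  rw [h2, wordG_cons, wordG_nil, mul_one] at h1
  have h3' : (xG hpG2.inList 8 s : GL chevG2.Idx K) * xG hpG2.inList 9 t =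
      xG hpG2.inList 9 t * xG hpG2.inList 8 s := congrArg Subtype.val hcm
  have h4 : ⁅(xG hpG2.inList 9 t : GL chevG2.Idx K)⁻¹, (xG hpG2.inList 8 s)⁻¹⁆ = 1 := by
    rw [commutatorElement_eq_one_iff_mul_comm]
    have : Commute (xG hpG2.inList 9 t : GL chevG2.Idx K) (xG hpG2.inList 8 s) := h3'.symm
    exact this.inv_inv
  rw [h4] at h1
  have h5 := xG_injective hpG2.inList g11 (h1.symm.trans (xG_zero hpG2.inList 11).symm)
  rcases mul_eq_zero.1 h5 with h6 | h6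
  · rcases mul_eq_zero.1 h6 with h7 | h7
    · exact h3 h7
    · exact hs (neg_eq_zero.1 h7)
  · exact ht h6

theorem comm_long (s t : K) : xx K 10 s * xx K 11 t = xx K 11 t * xx K 10 s := by
  obtain ⟨-, c1, -, -, g10, g11, -, n1⟩ := cm
  have h1 := comm_xG hpG2 (K := K) g10 g11 (by decide) n1 s t
  have h2 : chevG2.commWord K 10 11 s t = [] := by
    change (chevG2.commTerms 10 11).map _ = _
    rw [c1]
    simp
  rw [h2, wordG_nil, commutatorElement_eq_one_iff_mul_comm] at h1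
  have h3 : Commute (xG hpG2.inList 11 t : GL chevG2.Idx K)⁻¹ (xG hpG2.inList 10 s)⁻¹ := h1
  have h4 := h3.inv_inv
  rw [inv_inv, inv_inv] at h4
  exact Subtype.ext h4.symm.eq

variable [Fintype K]

theorem diag_eq_one {p : ℕ} [Fact p.Prime] [CharP K p] (h3 : (3 : K) ≠ 0) {β : MulAut ↥(chevG2.group K)}
    {σ : Equiv.Perm (Fin 2)} (D : Diag (TT chevG2 K) (XX chevG2 2 K) β σ) : σ = 1 := by
  have hfin := finite_W hpG2 cs
  have R := rgd (K := K) hpG2 cs p
  have hM := D.matrix R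
  by_contra hne
  have h0 : σ 0 = 1 := by
    by_contra h1
    have h2 : σ 0 = 0 := by
      generalize σ 0 = a at h1
      fin_cases a
      · rfl
      · exact absurd rfl h1
    have h4 : σ 1 = 1 := by
      by_contra h5
      have h6 : σ 1 = 0 := by
        generalize σ 1 = a at h5
        fin_cases a
        · rfl
        · exact absurd rfl h5
      exact absurd (σ.injective (h2.trans h6.symm)) (by decide)
    apply hne
    ext i
    fin_cases i
    · exact congrArg Fin.val h2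
    · exact congrArg Fin.val h4
  have h1 : σ 1 = 0 := by
    by_contra h1
    have h2 : σ 1 = 1 := by
      generalize σ 1 = a at h1
      fin_cases a
      · exact absurd rfl h1
      · rfl
    exact absurd (σ.injective (h0.trans h2.symm)) (by decide)
  obtain ⟨⟨v8, v9⟩, v10, v11⟩ := vec_eqs
  obtain ⟨k1, k2⟩ := GTwo.cart
  obtain ⟨-, -, g8, g9, g10, g11, -, -⟩ := cm
  -- the four roots
  have e8 : rep cs hpG2.isCartan (cs.simple 1) (sr 0) = ![1, 1] := by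
    rw [rep_one, sr_zero_eq]
    exact vec_ext (by simp) (by simp [k2])
  have e9 : rep cs hpG2.isCartan (cs.simple 0 * cs.simple 1) (sr 0) = ![2, 1] := by
    rw [rep_mul_apply, e8, rep_zero]
    exact vec_ext (by simp [k1]) (by simp)
  have e10 : rep cs hpG2.isCartan (cs.simple 0) (sr 1) = ![3, 1] := by
    rw [rep_zero, sr_one_eq]
    exact vec_ext (by simp [k1]) (by simp)
  have e11 : rep cs hpG2.isCartan (cs.simple 1 * cs.simple 0) (sr 1) = ![3, 2] := by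
    rw [rep_mul_apply, e10, rep_one]
    exact vec_ext (by simp) (by simp [k2])
  have d1 := D.root R hM (cs.simple 1) 0 (xx K 8 1)
  rw [hat_simple, h0, h1, e8, e10] at d1
  have d2 := D.root R hM (cs.simple 0 * cs.simple 1) 0 (xx K 9 1)
  rw [map_mul, hat_simple, hat_simple, h0, h1, e9, e11] at d2
  obtain ⟨s, hs⟩ := (XX_iff g10 v10).1 (d1.2 ((XX_iff g8 v8).2 ⟨1, rfl⟩))
  obtain ⟨t, ht⟩ := (XX_iff g11 v11).1 (d2.2 ((XX_iff g9 v9).2 ⟨1, rfl⟩))
  refine not_comm h3 one_ne_zero one_ne_zero (β.injective ?_)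
  rw [map_mul, map_mul, hs, ht]
  exact comm_long s t

/-- the characters -/
theorem exists_indC {p : ℕ} [Fact p.Prime] [CharP K p] [Fintype ↥(chevG2.group K)] (h4 : 4 ≤ Fintype.card K) :
    ∃ χ, IndC cs hpG2.isCartan (TT chevG2 K) (XX chevG2 2 K) 0 χ := by
  have hfin := finite_W hpG2 cs
  have R := rgd (K := K) hpG2 cs p
  obtain ⟨c, hc0, hc2⟩ := Cfsg.Agent.ETable.Exc.exists_sq_ne_one K (by
    rw [Nat.card_eq_fintype_card]
    omega)
  obtain ⟨hx9, hx2, hx7⟩ := vecs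
  obtain ⟨k1, k2⟩ := GTwo.cart
  obtain ⟨d1, d2, d3, d4⟩ := cart2
  obtain ⟨g1, g2, g3, g4, g5, g6, g7⟩ := cart3
  exact exists_indC_G2 R (GG_eq_top hpG2 K _) TT_comm (by rw [k1, k2]; norm_num)
    (by
      rw [card_XX hpG2 K cs (isRoot_sr _ hpG2.isCartan 0), Nat.card_eq_fintype_card]
      omega) (a := hh K 1 c) (hh_mem 1 hc0)
    (by
      rw [hh_mul 1 hc0 hc0]
      refine hh_ne_one g2 (mul_ne_zero hc0 hc0) ?_
      change (c * c) ^ (chevG2.cartan 1 8) ≠ 1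
      rw [g1, zpow_one, ← sq]
      exact hc2)
    (Subtype.ext (nn_inv_hG hpG2 K 1 hc0))
    (by
      rw [k2, _root_.neg_neg]
      intro u hu
      obtain ⟨t, rfl⟩ := (mem_XX g3 hx9).1 hu
      rw [hh_xG 1 g3 hc0]
      change (⟨xG _ 9 (c ^ (chevG2.cartan 1 9) * t), _⟩ : ↥(chevG2.group K)) * _ = _
      simp only [d1, zpow_zero, one_mul])
    (by
      rw [k2, _root_.neg_neg]
      intro u hu
      obtain ⟨t, rfl⟩ := (mem_XX g4 hx2).1 hu
      rw [hh_xG 1 g4 hc0]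
      change (⟨xG _ 2 (c ^ (chevG2.cartan 1 2) * t), _⟩ : ↥(chevG2.group K)) * _ = _
      simp only [d2, zpow_zero, one_mul])

theorem ab_short : ∀ a ∈ XX chevG2 2 K (sr 0), ∀ b ∈ XX chevG2 2 K (sr 0), a * b = b * a := by
  have g7 : 7 < chevG2.nroots := by decide +kernel
  intro a ha b hb
  obtain ⟨s, rfl⟩ := (XX_iff g7 vec_sr.1).1 ha
  obtain ⟨t, rfl⟩ := (XX_iff g7 vec_sr.1).1 hb
  rw [xx_add, xx_add, add_comm]

/-- the elements of the torus -/
theorem vz_hh (h3 : (3 : K) ≠ 0) (h4 : 4 ≤ Fintype.card K) {c : K} (hc : c ≠ 0) (hc2 : c ^ 2 ≠ 1) :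
    H713.VZ ↥(chevG2.group K) (hh K 0 c) := by
  classical
  obtain ⟨p, hch⟩ := CharP.exists K
  have : Fact p.Prime := ⟨CharP.char_is_prime K p⟩
  have hfin := finite_W hpG2 cs
  have R := rgd (K := K) hpG2 cs p
  have := Fintype.ofFinite ↥(chevG2.group K)
  obtain ⟨χ, hχ⟩ := exists_indC (K := K) (p := p) h4
  refine vz_of_free R (GG_eq_top hpG2 K _) TT_comm (i := 0) ab_short (fun β σ D => diag_eq_one (p := p) h3 D) hχ
    (hh_mem 0 hc) fun w u hu hcm => ?_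
  obtain ⟨r, hr, e⟩ := orbit_short w
  obtain ⟨t, rfl⟩ := (XX_iff (rank_lt r hr) e).1 hu
  have h1 := free (i := 0) (rank_lt r hr) hc (zpow_ne_one_of hc hc2 (cart_short r hr)) hcm
  rw [h1]
  exact xx_zero r

/-- the elliptic elements -/
theorem vz_ell (h3 : (3 : K) ≠ 0) (h4 : 4 ≤ Fintype.card K) :
    ∃ φ : Matrix.SpecialLinearGroup (Fin 2) K →* ↥(chevG2.group K), ∀ A, NoSplit A →
      H713.VZ ↥(chevG2.group K) (φ A) ∧ φ A ≠ 1 := by
  classical
  obtain ⟨p, hch⟩ := CharP.exists K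
  have : Fact p.Prime := ⟨CharP.char_is_prime K p⟩
  have hfin := finite_W hpG2 cs
  have R := rgd (K := K) hpG2 cs p
  have := Fintype.ofFinite ↥(chevG2.group K)
  obtain ⟨χ, hχ⟩ := exists_indC (K := K) (p := p) h4
  obtain ⟨φ, hup, hlo⟩ := exists_sl2 K 1
  obtain ⟨s1, s2, -, -⟩ := simple_eq
  obtain ⟨-, v6, v5, -⟩ := vec_sr
  have g6 : 6 < chevG2.nroots := by decide +kernel
  have g5 : 5 < chevG2.nroots := by decide +kernel
  rw [s1] at hup
  rw [s2] at hlo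
  refine ⟨φ, fun A hA => ?_⟩
  have hE : Ell cs hpG2.isCartan (TT chevG2 K) (XX chevG2 2 K) {1} (φ A) := by
    refine ell_of_sl2 R φ (fun t => ?_) (fun t => ?_) (fun u hu => ?_) (fun u hu => ?_) (fun t ht => ?_) hA
    · rw [hup]; exact (XX_iff g6 v6).2 ⟨t, rfl⟩
    · rw [hlo]; exact (XX_iff g5 v5).2 ⟨t, rfl⟩
    · obtain ⟨t, rfl⟩ := (XX_iff g6 v6).1 hu
      exact ⟨t, (hup t).symm⟩
    · obtain ⟨t, rfl⟩ := (XX_iff g5 v5).1 hu
      exact ⟨t, (hlo t).symm⟩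
    · rw [hlo]; exact xx_ne_one g5 ht
  refine ⟨vz_of_ell R (GG_eq_top hpG2 K _) (i := 0) (j := 1) (fun β σ D => ?_) hχ hE long_ne_short, ?_⟩
  · rw [diag_eq_one (p := p) h3 D]; rfl
  · intro h1
    rw [h1] at hE
    have h2 := hE.2 1 (one_mem _) ∅ (Set.empty_subset _) (by simp)
    exact Set.singleton_ne_empty _ h2.symm

/-- **`G₂(q)`, characteristic different from 3.** -/
theorem row_ne_three (h3 : (3 : K) ≠ 0) (h4 : 4 ≤ Fintype.card K) {p : ℕ} (hp : p.Prime)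
    (hd : p ∣ Fintype.card K ^ 2 - 1) :
    (p ≠ 2 → H620.PNorm.VOrdP p ↥(chevG2.group K)) ∧ H620.PNorm.VPow p ↥(chevG2.group K) := by
  classical
  have hfac : Fintype.card K ^ 2 - 1 = (Fintype.card K - 1) * (Fintype.card K + 1) := by
    obtain ⟨m, hm⟩ := Nat.exists_eq_add_of_le h4
    rw [hm, show (4 + m) ^ 2 = (4 + m - 1) * (4 + m + 1) + 1 by
      have : 4 + m - 1 = 3 + m := by omega
      rw [this]; ring]
    rfl
  rw [hfac] at hd
  have := Fact.mk hp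
  have key : p ≠ 2 → H620.PNorm.VOrdP p ↥(chevG2.group K) := by
    intro h2
    rcases hp.dvd_mul.1 hd with h | h
    · obtain ⟨d, hd⟩ := exists_prime_orderOf_dvd_card (G := Kˣ) p (by rwa [Fintype.card_units])
      have hd1 : (d : K) ^ 2 ≠ 1 := by
        intro h6
        have h7 : d ^ 2 = 1 := Units.ext (by rw [Units.val_pow_eq_pow_val, h6, Units.val_one])
        have h8 := orderOf_dvd_of_pow_eq_one h7
        rw [hd] at h8
        exact h2 ((Nat.prime_dvd_prime_iff_eq hp Nat.prime_two).1 h8)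
      have hfree : (d : K) ^ (chevG2.cartan (0 : Fin 2) 7) ≠ 1 :=
        zpow_ne_one_of d.ne_zero hd1 (cart_short 7 (by decide))
      refine ⟨hh K 0 d, orderOf_eq_prime ?_ (hh_ne_one (rank_lt 7 (by decide)) d.ne_zero hfree),
        vz_hh h3 h4 d.ne_zero hd1⟩
      rw [hh_pow 0 d.ne_zero, ← Units.val_pow_eq_pow_val, ← hd, pow_orderOf_eq_one, Units.val_one, hh_one]
    · obtain ⟨A, hA, hN⟩ := exists_noSplit (F := K) hp h2 (by rwa [Nat.card_eq_fintype_card])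
      obtain ⟨φ, hφ⟩ := vz_ell h3 h4
      refine ⟨φ A, orderOf_eq_prime ?_ (hφ A hN).2, (hφ A hN).1⟩
      rw [← map_pow, ← hA, pow_orderOf_eq_one, map_one]
  refine ⟨key, ?_⟩
  by_cases h2 : p = 2
  · subst h2
    have hodd : Fintype.card K % 2 = 1 := by
      rcases hp.dvd_mul.1 hd with h | h
      · omega
      · omega
    by_cases hm : Fintype.card K % 4 = 1
    · obtain ⟨g, hg⟩ := IsCyclic.exists_generator (α := Kˣ)
      have hog : orderOf g = Fintype.card K - 1 := by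
        rw [orderOf_eq_card_of_forall_mem_zpowers hg, Nat.card_eq_fintype_card, Fintype.card_units]
      obtain ⟨a, ha⟩ : ∃ a, Fintype.card K = 4 * a + 1 := ⟨Fintype.card K / 4, by omega⟩
      have ha0 : 0 < a := by omega
      set d : Kˣ := g ^ a with hdd
      have hd2 : d ^ 2 ≠ 1 := by
        intro h
        rw [hdd, ← pow_mul] at h
        have h5 := Nat.le_of_dvd (by omega) (orderOf_dvd_of_pow_eq_one h)
        rw [hog] at h5
        omega
      have hd4 : d ^ 4 = 1 := by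
        rw [hdd, ← pow_mul, show a * 4 = orderOf g by rw [hog, ha]; omega, pow_orderOf_eq_one]
      have hd2' : (d : K) ^ 2 ≠ 1 := fun h => hd2 (Units.ext (by rw [Units.val_pow_eq_pow_val, h, Units.val_one]))
      refine ⟨hh K 0 d, ?_, vz_hh h3 h4 d.ne_zero hd2'⟩
      have h6 : orderOf (hh K 0 (d : K)) ∣ 2 ^ 2 := by
        apply orderOf_dvd_of_pow_eq_one
        rw [hh_pow 0 d.ne_zero, ← Units.val_pow_eq_pow_val]
        change hh K 0 ((d ^ 4 : Kˣ) : K) = 1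
        rw [hd4, Units.val_one, hh_one]
      obtain ⟨j, -, hj⟩ := (Nat.dvd_prime_pow Nat.prime_two).1 h6
      exact ⟨j, hj⟩
    · obtain ⟨A, hA, hN⟩ := exists_noSplit_four (F := K) (by rw [Nat.card_eq_fintype_card]; omega)
      obtain ⟨φ, hφ⟩ := vz_ell h3 h4
      refine ⟨φ A, ?_, (hφ A hN).1⟩
      have h6 : orderOf (φ A) ∣ 2 ^ 2 := by
        apply orderOf_dvd_of_pow_eq_one
        rw [← map_pow]
        change φ (A ^ 4) = 1
        rw [hA, map_one]
      obtain ⟨j, -, hj⟩ := (Nat.dvd_prime_pow Nat.prime_two).1 h6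
      exact ⟨j, hj⟩
  · exact (key h2).vPow

end Cfsg.Agent.H40.PV.GT
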