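import Cfsg.Agent.H40.PV.Reg
import Cfsg.Agent.H40.PV.GTwoRow
import Cfsg.Agent.S1034
import Cfsg.Agent.S1031
import Cfsg.Agent.H139.Cusp.Orth

/-!
# A principal series character of `G₂(q)`, `q ≥ 8`, in general position (helper40, S4555 / S4559)
-/

set_option autoImplicit false
set_option linter.unusedSectionVars false

open Cfsg

namespace Cfsg.Agent.H40.PV.GT

open CoxeterSystem Cfsg.Agent.ChevalleyStructure.CoxeterGeom Cfsg.Agent.Tits.Roots Cfsg.Agent.Tits.Core
  Cfsg.Agent.Nodes.Reps Cfsg.Agent.Nodes.BNOf Cfsg.Agent.Nodes.Bruhat Cfsg.Agent.Nodes.LeviDec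
open Cfsg.Lie Cfsg.Agent.ChevalleyStructure Cfsg.Agent.ChevalleyStructure.Elts
  Cfsg.Agent.ChevalleyStructure.RootVec Cfsg.Agent.ChevalleyStructure.RootVecTab
  Cfsg.Agent.ChevalleyStructure.NPerm Cfsg.Agent.ChevalleyStructure.CoxeterGeomTypes
open Cfsg.Agent.Nodes.RGDChev Cfsg.Agent.H35.ExcIdx Cfsg.Agent.H35.PoinNum Cfsg.Agent.H115.HC
  Cfsg.Agent.H115.HC.GTwo Cfsg.Agent.KFacts.RgdDiag

universe u

variable {K : Type u} [Field K]

/-- the elements of the torus -/
theorem exists_hh {t : ↥(chevG2.group K)} (ht : t ∈ TT chevG2 K) :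
    ∃ a b : K, a ≠ 0 ∧ b ≠ 0 ∧ t = hh K 0 a * hh K 1 b := by
  obtain ⟨c, hc, e⟩ := Cfsg.Agent.S1034.result chevG2 hpG2.inList (t : GL chevG2.Idx K) (Subgroup.mem_subgroupOf.1 ht)
  have hr : chevG2.rank = 2 := by decide +kernel
  have hr' : List.range chevG2.rank = [0, 1] := by decide +kernel
  refine ⟨c 0, c 1, hc 0 (by rw [hr]; norm_num), hc 1 (by rw [hr]; norm_num), Subtype.ext ?_⟩
  apply Units.ext
  rw [e, hr']
  change chevG2.wordMat K ([0, 1].flatMap fun i => chevG2.hWord (chevG2.simple i) (c i)) =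
    ((hG hpG2.inList (chevG2.simple 0) (c 0) * hG hpG2.inList (chevG2.simple 1) (c 1) : GL chevG2.Idx K) :
      Matrix chevG2.Idx chevG2.Idx K)
  simp only [List.flatMap_cons, List.flatMap_nil, List.append_nil]
  unfold hG
  rw [← wordG_append, coe_wordG]

theorem hh_xx (i : Fin 2) {s : ℕ} (hs : s < chevG2.nroots) {c : K} (hc : c ≠ 0) (t : K) :
    hh K i c * xx K s t = xx K s (c ^ (chevG2.cartan i s) * t) * hh K i c := hh_xG i hs hc t

/-- the scaling of the root group `s` by the torus -/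
theorem exists_scal {s : ℕ} (hs : s < chevG2.nroots) {t : ↥(chevG2.group K)} (ht : t ∈ TT chevG2 K) :
    ∃ c : Kˣ, ∀ u, t * xx K s u = xx K s (c * u) * t := by
  obtain ⟨a, b, ha, hb, rfl⟩ := exists_hh ht
  refine ⟨Units.mk0 (a ^ (chevG2.cartan (0 : Fin 2) s) * b ^ (chevG2.cartan (1 : Fin 2) s))
    (mul_ne_zero (zpow_ne_zero _ ha) (zpow_ne_zero _ hb)), fun u => ?_⟩
  rw [mul_assoc, hh_xx 1 hs hb, ← mul_assoc, hh_xx 0 hs ha, mul_assoc, Units.val_mk0, mul_assoc]

theorem scal_unique {s : ℕ} (hs : s < chevG2.nroots) {t : ↥(chevG2.group K)} {c d : Kˣ}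
    (h1 : ∀ u, t * xx K s u = xx K s (c * u) * t) (h2 : ∀ u, t * xx K s u = xx K s (d * u) * t) : c = d := by
  have h3 := (h1 1).symm.trans (h2 1)
  rw [mul_left_inj] at h3
  have h4 := xx_inj hs h3
  rw [mul_one, mul_one] at h4
  exact Units.ext h4

/-- the root `s` as a character of the torus -/
noncomputable def scal (K : Type u) [Field K] (s : ℕ) (hs : s < chevG2.nroots) : ↥(TT chevG2 K) →* Kˣ where
  toFun t := (exists_scal hs t.2).choose
  map_one' := by
    refine scal_unique hs (t := 1) (exists_scal hs (one_mem _)).choose_spec fun u => ?_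
    rw [one_mul, mul_one, Units.val_one, one_mul]
  map_mul' x y := by
    refine scal_unique hs (t := x * y) (exists_scal hs (x * y).2).choose_spec fun u => ?_
    change (x : ↥(chevG2.group K)) * y * xx K s u = _ * ((x : ↥(chevG2.group K)) * y)
    rw [mul_assoc, (exists_scal hs y.2).choose_spec, ← mul_assoc, (exists_scal hs x.2).choose_spec, mul_assoc,
      Units.val_mul, mul_assoc]

theorem scal_spec {s : ℕ} (hs : s < chevG2.nroots) (t : ↥(TT chevG2 K)) (u : K) :
    (t : ↥(chevG2.group K)) * xx K s u = xx K s (scal K s hs t * u) * t :=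
  (exists_scal hs t.2).choose_spec u

theorem scal_eq {s : ℕ} (hs : s < chevG2.nroots) {t : ↥(chevG2.group K)} (ht : t ∈ TT chevG2 K) {c : Kˣ}
    (h : ∀ u, t * xx K s u = xx K s (c * u) * t) : scal K s hs ⟨t, ht⟩ = c :=
  scal_unique hs (scal_spec hs ⟨t, ht⟩) h

theorem scal_hh {s : ℕ} (hs : s < chevG2.nroots) (i : Fin 2) (c : Kˣ) :
    scal K s hs ⟨hh K i c, hh_mem i c.ne_zero⟩ = c ^ (chevG2.cartan i s) := by
  refine scal_eq hs _ fun u => ?_
  rw [hh_xx i hs c.ne_zero, Units.val_zpow_eq_zpow_val]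

theorem refl_lt : ∀ i : Fin 2, ∀ s < 12, chevG2.reflectRoot i s < 12 := by decide +kernel

variable [Fintype K]

/-- elements of the monomial group act linearly on the root groups -/
theorem exists_lin {p : ℕ} [Fact p.Prime] [CharP K p] {w : CoxeterMatrix.G₂.Group} {g : ↥(chevG2.group K)}
    (hg : Rp cs (rgd (K := K) hpG2 cs p).nsys w g) {s : ℕ} (hs : s < chevG2.nroots) :
    ∃ s', ∃ _ : s' < chevG2.nroots, vec chevG2 2 s' = rep cs hpG2.isCartan w (vec chevG2 2 s) ∧
      ∃ η : Kˣ, ∀ u, g * xx K s u = xx K s' (η * u) * g := by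
  obtain ⟨ω, rfl⟩ := cs.wordProd_surjective w
  induction ω generalizing g with
  | nil =>
    rw [wordProd_nil] at hg ⊢
    obtain ⟨c, hc⟩ := exists_scal hs hg.mem_of_one
    exact ⟨s, hs, by rw [map_one, Module.End.one_apply], c, hc⟩
  | cons i ω ih =>
    rw [wordProd_cons] at hg ⊢
    set nI : ↥(chevG2.group K) := ⟨nn hpG2 K i, nn_mem_group hpG2 i⟩ with hnI
    have hn : Rp cs (rgd (K := K) hpG2 cs p).nsys (cs.simple i) nI := rp_simple cs _ i
    have h1 : Rp cs (rgd (K := K) hpG2 cs p).nsys (cs.wordProd ω) (nI⁻¹ * g) := by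
      have := hn.inv.mul hg
      rwa [inv_mul_cancel_left] at this
    obtain ⟨s', hs', e, η, hη⟩ := ih h1
    obtain ⟨ε, hε, he⟩ := Cfsg.Agent.S1031.result (F := K) chevG2 hpG2.inList i s' (lt_rank hpG2 i) hs'
    have hεu : IsUnit ((ε : ℤ) : K) := by
      rcases hε with rfl | rfl
      · simp
      · simp
    obtain ⟨e', he'⟩ := hεu
    have hs'' : chevG2.reflectRoot i s' < chevG2.nroots := by
      rw [nroots_eq] at hs' ⊢
      exact refl_lt i s' hs'
    refine ⟨chevG2.reflectRoot i s', hs'', ?_, e' * η, fun u => ?_⟩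
    · rw [rep_mul_apply, ← e, rep_vec hpG2 cs i hs']
    · have h2 : nI * xx K s' (η * u) = xx K (chevG2.reflectRoot i s') (e' * (η * u)) * nI := by
        apply Subtype.ext
        apply Units.ext
        change ((nn hpG2 K i : GL chevG2.Idx K) : Matrix chevG2.Idx chevG2.Idx K) *
          ((xG hpG2.inList s' (η * u) : GL chevG2.Idx K) : Matrix chevG2.Idx chevG2.Idx K) =
          ((xG hpG2.inList _ (e' * (η * u)) : GL chevG2.Idx K) : Matrix chevG2.Idx chevG2.Idx K) *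
          ((nn hpG2 K i : GL chevG2.Idx K) : Matrix chevG2.Idx chevG2.Idx K)
        rw [coe_xG, coe_xG, nn, coe_nG, he, he']
      have h3 : g * xx K s u = nI * (nI⁻¹ * g * xx K s u) := by group
      rw [h3, hη, ← mul_assoc, h2, Units.val_mul, mul_assoc]
      group

/-- the twelve images of the pair of simple roots -/
def PP : List (ℕ × ℕ) := [(3, 6), (7, 1), (4, 5), (2, 11), (8, 0), (9, 0), (2, 10), (4, 10), (9, 1), (8, 5), (3, 11),
  (7, 6)]

theorem closed_PP : ∀ P ∈ PP, ∀ i : Fin 2, (chevG2.reflectRoot i P.1, chevG2.reflectRoot i P.2) ∈ PP := by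
  decide +kernel

theorem PP_lt : ∀ P ∈ PP, P.1 < chevG2.nroots ∧ P.2 < chevG2.nroots := by decide +kernel

theorem orbit_PP (w : CoxeterMatrix.G₂.Group) : ∃ P ∈ PP, vec chevG2 2 P.1 = rep cs hpG2.isCartan w (sr 0) ∧
    vec chevG2 2 P.2 = rep cs hpG2.isCartan w (sr 1) := by
  obtain ⟨ω, rfl⟩ := cs.wordProd_surjective w
  induction ω with
  | nil =>
    rw [wordProd_nil, map_one, Module.End.one_apply, Module.End.one_apply]
    exact ⟨(7, 6), by decide, vec_sr.1, vec_sr.2.1⟩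
  | cons j ω ih =>
    obtain ⟨P, hP, e1, e2⟩ := ih
    obtain ⟨l1, l2⟩ := PP_lt P hP
    refine ⟨_, closed_PP P hP j, ?_, ?_⟩
    · rw [wordProd_cons, rep_mul_apply, ← e1, rep_vec hpG2 cs j l1]
    · rw [wordProd_cons, rep_mul_apply, ← e2, rep_vec hpG2 cs j l2]

/-- the exponents -/
theorem exps : ∀ P ∈ PP, P = (7, 6) ∨ ∃ i : Fin 2, 5 * chevG2.cartan i P.1 + 3 * chevG2.cartan i P.2 - 1 ≠ 0 ∧
    5 * chevG2.cartan i P.1 + 3 * chevG2.cartan i P.2 - 1 ≤ 6 ∧
    -6 ≤ 5 * chevG2.cartan i P.1 + 3 * chevG2.cartan i P.2 - 1 := by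
  decide +kernel

theorem exps_one : ∀ i : Fin 2, 5 * chevG2.cartan i 7 + 3 * chevG2.cartan i 6 = 1 := by decide +kernel

/-- **The irreducible principal series of `G₂(q)`, `q ≥ 8`.** -/
theorem exists_ps {p : ℕ} [Fact p.Prime] [CharP K p] [Fintype ↥(chevG2.group K)] (h8 : 8 ≤ Fintype.card K) :
    ∃ χ : IrrCharacter ↥(chevG2.group K), ∀ x : ↥(chevG2.group K),
      (∀ g, g⁻¹ * x * g ∉ RGD.B cs hpG2.isCartan (TT chevG2 K) (XX chevG2 2 K)) →
        (χ : ↥(chevG2.group K) → ℂ) x = 0 := by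
  classical
  have hfin := finite_W hpG2 cs
  have R := rgd (K := K) hpG2 cs p
  have g7 : 7 < chevG2.nroots := by decide +kernel
  have g6 : 6 < chevG2.nroots := by decide +kernel
  -- a generator of the multiplicative group and an injective character
  obtain ⟨c, hc⟩ := IsCyclic.exists_generator (α := Kˣ)
  have hoc : orderOf c = Fintype.card K - 1 := by
    rw [orderOf_eq_card_of_forall_mem_zpowers hc, Nat.card_eq_fintype_card, Fintype.card_units]
  have hpow : ∀ z : ℤ, z ≠ 0 → z ≤ 6 → -6 ≤ z → c ^ z ≠ 1 := by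
    intro z hz h1 h2 h3
    have h4 := orderOf_dvd_iff_zpow_eq_one.2 h3
    rw [hoc] at h4
    have h5 := Int.natCast_dvd.1 h4
    have h6 := Nat.le_of_dvd (Int.natAbs_pos.2 hz) h5
    omega
  obtain ⟨θ, hθ⟩ := Cfsg.Agent.H139.Cusp.exists_theta K
  set μ : Kˣ →* ℂˣ := Units.map (θ : K →* ℂ) with hμdef
  have hμ : Function.Injective μ := by
    intro a b hab
    apply Units.ext
    apply hθ
    have := congrArg Units.val hab
    exact this
  let f : ↥(TT chevG2 K) →* ℂˣ := (μ.comp (scal K 7 g7)) ^ 5 * (μ.comp (scal K 6 g6)) ^ 3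
  have hf : ∀ t, f t = μ (scal K 7 g7 t) ^ 5 * μ (scal K 6 g6 t) ^ 3 := fun t => rfl
  refine exists_principal R (GG_eq_top hpG2 K _) f fun w g hg hw => ?_
  obtain ⟨P, hP, e1, e2⟩ := orbit_PP w
  obtain ⟨l1, l2⟩ := PP_lt P hP
  -- conjugation
  have key : ∀ {s s' : ℕ} (hs : s < chevG2.nroots) (hs' : s' < chevG2.nroots),
      vec chevG2 2 s' = rep cs hpG2.isCartan w (vec chevG2 2 s) → ∀ (t : ↥(chevG2.group K)) (ht : t ∈ TT chevG2 K),
        scal K s hs ⟨g⁻¹ * t * g, conj_mem_T R hg ht⟩ = scal K s' hs' ⟨t, ht⟩ := by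
    intro s s' hs hs' e t ht
    obtain ⟨s'', hs'', e', η, hη⟩ := exists_lin (p := p) hg hs
    obtain rfl : s'' = s' := vec_inj hpG2 hs'' hs' (e'.trans e.symm)
    refine scal_eq hs _ fun u => ?_
    set c' := scal K s'' hs' ⟨t, ht⟩ with hc'
    have h1 : ∀ v, t * xx K s'' v = xx K s'' (c' * v) * t := fun v => scal_spec hs' ⟨t, ht⟩ v
    have h2 := hη (c' * u)
    calc g⁻¹ * t * g * xx K s u = g⁻¹ * (t * (g * xx K s u)) := by group
      _ = g⁻¹ * ((t * xx K s'' (η * u)) * g) := by rw [hη, mul_assoc]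
      _ = g⁻¹ * (xx K s'' (η * (c' * u)) * g) * (g⁻¹ * t * g) := by
          rw [h1, show (c' : K) * (η * u) = η * (c' * u) by ring]
          group
      _ = g⁻¹ * (g * xx K s (c' * u)) * (g⁻¹ * t * g) := by rw [h2]
      _ = xx K s (c' * u) * (g⁻¹ * t * g) := by group
  rcases exps P hP with h1 | ⟨i, h1, h2, h3⟩
  · exfalso
    apply hw
    refine eq_of_rep (cs := cs) (h := hpG2.isCartan) fun i => ?_
    rw [map_one, Module.End.one_apply]
    have hi : i = 0 ∨ i = 1 := by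
      fin_cases i
      · exact Or.inl rfl
      · exact Or.inr rfl
    rcases hi with rfl | rfl
    · rw [← e1, h1]; exact vec_sr.1
    · rw [← e2, h1]; exact vec_sr.2.1
  · refine ⟨hh K i c, hh_mem i c.ne_zero, fun heq => ?_⟩
    rw [hf, hf, key g7 l1 (by rw [e1, vec_sr.1]) _ (hh_mem i c.ne_zero),
      key g6 l2 (by rw [e2, vec_sr.2.1]) _ (hh_mem i c.ne_zero), scal_hh, scal_hh, scal_hh, scal_hh,
      ← map_pow, ← map_pow, ← map_pow, ← map_pow, ← map_mul, ← map_mul] at heq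
    have h4 := hμ heq
    refine hpow _ h1 h2 h3 ?_
    have h5 : c ^ (5 * chevG2.cartan i P.1 + 3 * chevG2.cartan i P.2) = c := by
      have h6 : ∀ a b : ℤ, (c ^ a) ^ 5 * (c ^ b) ^ 3 = c ^ (5 * a + 3 * b) := by
        intro a b
        rw [← zpow_natCast, ← zpow_natCast, ← zpow_mul, ← zpow_mul, ← zpow_add]
        congr 1
        push_cast
        ring
      rw [h6, h6, exps_one, zpow_one] at h4
      exact h4.symm
    rw [zpow_sub, h5, zpow_one, mul_inv_cancel]

end Cfsg.Agent.H40.PV.GT
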