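import Cfsg.Agent.H40.PV.Gal
import Mathlib.FieldTheory.IsAlgClosed.Spectrum
import Mathlib.LinearAlgebra.Matrix.Charpoly.Eigs

/-!
# The fusion of elements of prime order in linear groups (helper40, S4555 / S4559)

`card_fus_le` : an element of prime order `ℓ` acting nontrivially in dimension `d` is conjugate to at most `d` of its
powers.
-/

set_option autoImplicit false

open Cfsg Polynomial

namespace Cfsg.Agent.H40.PV

/-- eigenvalues of elements of prime order -/
theorem exists_eig {E : Type*} [Field E] [IsAlgClosed E] {ι : Type*} [Fintype ι] [DecidableEq ι] {ℓ : ℕ}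
    [hℓ : Fact ℓ.Prime] (hE : (ℓ : E) ≠ 0) {a : Matrix ι ι E} (ha : a ^ ℓ = 1) (h1 : a ≠ 1) :
    ∃ μ ∈ spectrum E a, μ ^ ℓ = 1 ∧ μ ≠ 1 := by
  classical
  set P : E[X] := ∑ i ∈ Finset.range ℓ, X ^ i with hP
  have h2 : P * (X - 1) = X ^ ℓ - 1 := by rw [hP]; exact geom_sum_mul X ℓ
  have h3 : aeval a P * (a - 1) = 0 := by
    have h4 := congrArg (aeval a) h2
    rw [map_mul, map_sub, map_sub, map_pow, aeval_X, map_one, ha, sub_self] at h4
    exact h4
  have h4 : ¬ IsUnit (aeval a P) := by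
    intro h5
    have h6 := (h5.mul_right_eq_zero).1 h3
    exact h1 (sub_eq_zero.1 h6)
  have h5 : (0 : E) ∈ spectrum E (aeval a P) := by
    rw [spectrum.zero_mem_iff]
    exact h4
  have hdeg : 0 < degree P := by
    have h6 : natDegree (P * (X - 1)) = ℓ := by
      rw [h2, ← C_1, natDegree_X_pow_sub_C]
    have h7 : P ≠ 0 := by
      rintro h8
      rw [h8, zero_mul, natDegree_zero] at h6
      exact hℓ.out.ne_zero h6.symm
    have h8 : (X - 1 : E[X]) ≠ 0 := X_sub_C_ne_zero 1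
    rw [natDegree_mul h7 h8, ← C_1, natDegree_X_sub_C] at h6
    rw [← natDegree_pos_iff_degree_pos]
    have := hℓ.out.two_le
    omega
  rw [spectrum.map_polynomial_aeval_of_degree_pos a P hdeg] at h5
  obtain ⟨μ, hμ, hμ0⟩ := h5
  refine ⟨μ, hμ, ?_, ?_⟩
  · have h6 := congrArg (eval μ) h2
    change eval μ P = 0 at hμ0
    rw [eval_mul, hμ0, zero_mul, eval_sub, eval_pow, eval_X, eval_one] at h6
    exact (sub_eq_zero.1 h6.symm)
  · rintro rfl
    apply hE
    change eval 1 P = 0 at hμ0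
    rw [hP, eval_finsetSum] at hμ0
    simpa using hμ0

/-- **The fusion of an element of prime order.** -/
theorem card_fus_le {G F : Type*} [Group G] [Field F] {ι : Type*} [Fintype ι] [DecidableEq ι] (ρ : G →* GL ι F)
    {ℓ : ℕ} [hℓ : Fact ℓ.Prime] (hF : (ℓ : F) ≠ 0) {g : G} (hg : g ^ ℓ = 1) (hρ : ρ g ≠ 1) :
    Nat.card (fus g hg) ≤ Fintype.card ι := by
  classical
  set E := AlgebraicClosure F
  let π : G →* Matrix ι ι E := ((algebraMap F E).mapMatrix (m := ι)).toMonoidHom.comp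
    ((Units.coeHom (Matrix ι ι F)).comp ρ)
  have hE : (ℓ : E) ≠ 0 := by
    intro h
    apply hF
    have h1 : algebraMap F E (ℓ : F) = algebraMap F E 0 := by rw [map_natCast, map_zero, h]
    exact (algebraMap F E).injective h1
  have ha : π g ^ ℓ = 1 := by rw [← map_pow, hg, map_one]
  have hne : π g ≠ 1 := by
    intro h
    apply hρ
    apply Units.ext
    have h1 : (algebraMap F E).mapMatrix ((ρ g : GL ι F) : Matrix ι ι F) = (algebraMap F E).mapMatrix 1 := by
      rw [map_one]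
      exact h
    have h2 : Function.Injective ((algebraMap F E).mapMatrix : Matrix ι ι F → Matrix ι ι E) :=
      Matrix.map_injective (algebraMap F E).injective
    exact h2 h1
  obtain ⟨μ, hμ, hμℓ, hμ1⟩ := exists_eig hE ha hne
  have horder : orderOf μ = ℓ := orderOf_eq_prime hμℓ hμ1
  have hmem : ∀ k : fus g hg, μ ^ ((k : (ZMod ℓ)ˣ) : ZMod ℓ).val ∈ (π g).charpoly.roots.toFinset := by
    intro k
    rw [Multiset.mem_toFinset, mem_roots (Matrix.charpoly_monic _).ne_zero, ← Matrix.mem_spectrum_iff_isRoot_charpoly]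
    obtain ⟨c, hc⟩ := isConj_iff.1 (mem_fus.1 k.2)
    have h1 : π g ^ ((k : (ZMod ℓ)ˣ) : ZMod ℓ).val = π c * π g * π c⁻¹ := by
      rw [← map_pow, ← map_mul, ← map_mul, hc]
      rfl
    have h2 := spectrum.pow_mem_pow (π g) ((k : (ZMod ℓ)ˣ) : ZMod ℓ).val hμ
    rw [h1] at h2
    let u : (Matrix ι ι E)ˣ := ⟨π c, π c⁻¹, by rw [← map_mul, mul_inv_cancel, map_one], by
      rw [← map_mul, inv_mul_cancel, map_one]⟩
    have h3 : spectrum E ((u : Matrix ι ι E) * π g * (↑u⁻¹ : Matrix ι ι E)) = spectrum E (π g) :=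
      spectrum.units_conjugate
    change _ ∈ spectrum E ((u : Matrix ι ι E) * π g * (↑u⁻¹ : Matrix ι ι E)) at h2
    rwa [h3] at h2
  have h1 : Nat.card (fus g hg) ≤ Nat.card ((π g).charpoly.roots.toFinset : Set E) := by
    refine Nat.card_le_card_of_injective (fun k => ⟨_, Finset.mem_coe.2 (hmem k)⟩) ?_
    intro k k' hkk
    have h2 : μ ^ ((k : (ZMod ℓ)ˣ) : ZMod ℓ).val = μ ^ ((k' : (ZMod ℓ)ˣ) : ZMod ℓ).val := congrArg Subtype.val hkk
    have h3 := pow_injOn_Iio_orderOf (x := μ) (Set.mem_Iio.2 (by rw [horder]; exact ZMod.val_lt _))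
      (Set.mem_Iio.2 (by rw [horder]; exact ZMod.val_lt _)) h2
    exact Subtype.ext (Units.ext (ZMod.val_injective ℓ h3))
  refine h1.trans ?_
  rw [Nat.card_eq_card_toFinset, Finset.toFinset_coe]
  refine (Multiset.toFinset_card_le _).trans ((card_roots' _).trans ?_)
  rw [Matrix.charpoly_natDegree_eq_dim]

end Cfsg.Agent.H40.PV
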