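import Cfsg.Agent.H53.HC.Rgd
import Cfsg.Agent.FixOdd.Cox
import Cfsg.Agent.KFacts.RgdDiag
import Cfsg.Agent.KFacts.RgdAutFacts

/-!
# Elements of parabolic subgroups which are in no smaller one (helper40, for S4555 / S4559)

`R` : a root group datum of `Y`. `Ell cs h T X K s` : `s ∈ P_K` and no conjugate of `s` under `P_K` lies in a standard
parabolic subgroup properly contained in `P_K` ("`s` is elliptic in `P_K`").

* `proj` : `z ∈ P_J`, `k⁻¹ z k ∈ P_{J'}` with `k` over a minimal double coset representative `w` gives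
  `z ∈ P_{J ∩ w J'}` ;
* `Ell.exists_conj` (LEMMA E) : `Ell K s`, `g⁻¹ s g ∈ P_J` give `K₁ ⊆ J` and `w : W` mapping the simple roots of `K`
  onto the simple roots of `K₁`, and `a ∈ P_J` with `Ell K₁ ((g a)⁻¹ s (g a))`;
* `exists_aut` : an automorphism maps `P_K` to a conjugate of `P_{σ K}`, `σ` a permutation of the nodes preserving the
  Coxeter matrix and the orders of the root groups; `Ell.aut`.
-/

set_option autoImplicit false
set_option linter.unusedSectionVars false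

open scoped Pointwise

namespace Cfsg.Agent.H40.PV

open CoxeterSystem Cfsg.Agent.ChevalleyStructure.CoxeterGeom Cfsg.Agent.Tits.Roots Cfsg.Agent.Tits.Core
  Cfsg.Agent.Tits.Exchange Cfsg.Agent.Nodes.Reps Cfsg.Agent.Nodes.BNOf Cfsg.Agent.Nodes.StabComb
  Cfsg.Agent.Nodes.Bruhat Cfsg.Agent.Nodes.OppDec Cfsg.Agent.Nodes.LeviDec Cfsg.Agent.H53.HC
  Cfsg.Agent.FixOdd.Cox Cfsg.Agent.KFacts.RgdAut Cfsg.Agent.KFacts.RgdDiag

variable {I W Y : Type*} [Fintype I] [DecidableEq I] [Group W] [Group Y] {M : CoxeterMatrix I}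
  {cs : CoxeterSystem M W} {A : I → I → ℤ} {h : IsCartan M A} {p : ℕ} {T : Subgroup Y} {n : I → Y}
  {X : (I → ℤ) → Subgroup Y}

/-- `s ∈ P_K` and no conjugate of `s` under `P_K` lies in a smaller standard parabolic subgroup -/
def Ell (cs : CoxeterSystem M W) (h : IsCartan M A) (T : Subgroup Y) (X : (I → ℤ) → Subgroup Y) (K : Set I) (s : Y) :
    Prop :=
  s ∈ PJ cs h T X K ∧ ∀ g ∈ PJ cs h T X K, ∀ K' ⊆ K, g⁻¹ * s * g ∈ PJ cs h T X K' → K' = K

/-! ### simple roots -/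

/-- `s_j w = w s_k` and `w` shorter than `w s_k` : `w` maps the simple root of `k` to the simple root of `j`. -/
theorem rep_sr_of_comm {w : W} {j k : I} (h1 : cs.simple j * w = w * cs.simple k)
    (h2 : cs.length w < cs.length (w * cs.simple k)) : rep cs h w (sr k) = sr j := by
  have h0 : 0 ≤ rep cs h w (sr k) := (lt_iff' cs h w k).1 h2
  have hr : IsRoot cs h (rep cs h w (sr k)) := (isRoot_sr cs h k).act w
  -- `s_j` maps it to its negative
  have e1 : rep cs h (cs.simple j) (rep cs h w (sr k)) = -rep cs h w (sr k) := by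
    rw [← rep_mul_apply, h1, rep_mul_apply, rep_simple_sr, map_neg]
  refine hr.eq_sr h0 j fun i hi => ?_
  have e2 := congrFun e1 i
  rw [Cfsg.Agent.Tits.RootComb.rep_apply_of_mem cs h (J := {j}) (simple_mem_WJ cs rfl) _ (by simpa using hi),
    Pi.neg_apply] at e2
  omega

section

variable (R : RGD cs h p T n X)

include R

/-- **Projection.** -/
theorem proj [Finite W] {J J' : Set I} {w : W} {k : Y} (hk : Rp cs R.nsys w k) (hL : IsMinL cs J w)
    (hR : IsMinR cs J' w) {z : Y} (hz : z ∈ PJ cs h T X J) (hz' : k⁻¹ * z * k ∈ PJ cs h T X J') :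
    z ∈ PJ cs h T X (capL cs J J' w) := by
  obtain ⟨v, hv, hc⟩ := (mem_PJ_iff_cell R).1 hz
  obtain ⟨u, hu, hd⟩ := (mem_PJ_iff_cell R).1 hz'
  have h1 : Cell R.nsys cs h X (v * w) (z * k) := Cell.mul_of_length R (hL v hv) hc (cell_of_rp hk)
  have h2 : Cell R.nsys cs h X (w * u) (k * (k⁻¹ * z * k)) := Cell.mul_of_length R (hR u hu) (cell_of_rp hk) hd
  have e : k * (k⁻¹ * z * k) = z * k := by group
  rw [e] at h2
  have h3 : v * w = w * u := Cell.unique R h1 h2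
  obtain ⟨-, h4⟩ := kilmoyer hL hR hL hR hv hu h3
  exact (cell_mem_PJ_iff R hc).2 h4

/-- Every element is `a g b` with `a ∈ P_J`, `b ∈ P_{J'}` and `g` over a minimal double coset representative. -/
theorem exists_min_pair [Finite W] (hG : GG cs h T X = ⊤) (J J' : Set I) (x : Y) :
    ∃ a ∈ PJ cs h T X J, ∃ b ∈ PJ cs h T X J', ∃ w g, Rp cs R.nsys w g ∧ x = a * g * b ∧
      IsMinL cs J w ∧ IsMinR cs J' w := by
  classical
  have hex : ∃ m : ℕ, ∃ w, cs.length w = m ∧ ∃ a ∈ PJ cs h T X J, ∃ b ∈ PJ cs h T X J', ∃ g,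
      Rp cs R.nsys w g ∧ x = a * g * b := by
    obtain ⟨w, b₁, hb₁, k, hk, b₂, hb₂, e⟩ := (mem_GG R).1 (show x ∈ GG cs h T X by rw [hG]; exact Subgroup.mem_top x)
    exact ⟨_, w, rfl, b₁, B_le_PJ hb₁, b₂, B_le_PJ hb₂, k, hk, e⟩
  obtain ⟨w, hw, a, ha, b, hb, g, hg, e⟩ := Nat.find_spec hex
  have hmin' : ∀ v, (∃ a ∈ PJ cs h T X J, ∃ b ∈ PJ cs h T X J', ∃ g, Rp cs R.nsys v g ∧ x = a * g * b) →
      cs.length w ≤ cs.length v := by
    intro v hv
    rw [hw]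
    exact Nat.find_min' hex ⟨v, rfl, hv⟩
  refine ⟨a, ha, b, hb, w, g, hg, e, ?_, ?_⟩
  · rw [isMinL_iff]
    intro i hi
    have h1 := hmin' (cs.simple i * w) ⟨a * (n i)⁻¹, mul_mem ha (inv_mem (LJ_le_PJ (n_mem_LJ R hi))), b, hb,
      n i * g, (rp_simple cs R.nsys i).mul hg, by rw [e]; group⟩
    have h2 := cs.length_simple_mul_ne w i
    omega
  · rw [isMinR_iff]
    intro i hi
    have h1 := hmin' (w * cs.simple i) ⟨a, ha, (n i)⁻¹ * b, mul_mem (inv_mem (LJ_le_PJ (n_mem_LJ R hi))) hb,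
      g * n i, hg.mul (rp_simple cs R.nsys i), by rw [e]; group⟩
    have h2 := cs.length_mul_simple_ne w i
    omega

/-- the weak form of LEMMA E -/
theorem Ell.exists_conj_aux [Finite W] (hG : GG cs h T X = ⊤) {K J : Set I} {s g : Y} (hs : Ell cs h T X K s)
    (hg : g⁻¹ * s * g ∈ PJ cs h T X J) : ∃ K₁ ⊆ J, ∃ w : W, (∀ j ∈ K₁, ∃ k ∈ K, rep cs h w (sr k) = sr j) ∧
      (∀ k ∈ K, ∃ j ∈ K₁, rep cs h w (sr k) = sr j) ∧ ∃ a ∈ PJ cs h T X J, (g * a)⁻¹ * s * (g * a) ∈ PJ cs h T X K₁ := by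
  obtain ⟨a, ha, b, hb, w, k, hk, e, hL, hR⟩ := exists_min_pair R hG J K g⁻¹
  -- `z = a⁻¹ (g⁻¹ s g) a = k (b s b⁻¹) k⁻¹`
  set z := a⁻¹ * (g⁻¹ * s * g) * a with hz
  have hzJ : z ∈ PJ cs h T X J := mul_mem (mul_mem (inv_mem ha) hg) ha
  have hg' : g = b⁻¹ * k⁻¹ * a⁻¹ := by
    rw [← inv_inv g, e]; group
  have e1 : k⁻¹ * z * k = b * s * b⁻¹ := by
    rw [hz, hg']; group
  have hbs : b * s * b⁻¹ ∈ PJ cs h T X K := mul_mem (mul_mem hb hs.1) (inv_mem hb)
  have h1 : z ∈ PJ cs h T X (capL cs J K w) := proj R hk hL hR hzJ (by rw [e1]; exact hbs)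
  have h2 : b * s * b⁻¹ ∈ PJ cs h T X (capL cs K J w⁻¹) := by
    refine proj R hk.inv ((isMinL_inv_iff cs).2 hR) ((isMinR_inv_iff cs).2 hL) hbs ?_
    rw [← e1]
    have e2 : (k⁻¹)⁻¹ * (k⁻¹ * z * k) * k⁻¹ = z := by group
    rw [e2]
    exact hzJ
  have h3 : capL cs K J w⁻¹ = K := by
    refine hs.2 b⁻¹ (inv_mem hb) _ (fun i hi => hi.1) ?_
    rwa [inv_inv]
  have hlt : ∀ i ∈ K, cs.length w < cs.length (w * cs.simple i) := (isMinR_iff cs).1 hR
  refine ⟨capL cs J K w, fun i hi => hi.1, w, ?_, ?_, a, ha, ?_⟩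
  · rintro j ⟨hj, i, hi, e3⟩
    exact ⟨i, hi, rep_sr_of_comm e3 (hlt i hi)⟩
  · intro i hi
    have hi' := hi
    rw [← h3] at hi'
    obtain ⟨-, j, hj, e3⟩ := hi'
    have e4 : cs.simple j * w = w * cs.simple i := by
      calc cs.simple j * w = w * (w⁻¹ * cs.simple j) * w := by group
        _ = w * (cs.simple i * w⁻¹) * w := by rw [e3]
        _ = _ := by group
    exact ⟨j, ⟨hj, i, hi, e4⟩, rep_sr_of_comm e4 (hlt i hi)⟩
  · have e2 : (g * a)⁻¹ * s * (g * a) = z := by rw [hz]; group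
    rw [e2]
    exact h1

/-- **LEMMA E.** `s` elliptic in `P_K`, `g⁻¹ s g ∈ P_J`: `K` is conjugate to a subset `K₁` of `J` and `g⁻¹ s g` is
conjugate under `P_J` to an elliptic element of `P_{K₁}`. -/
theorem Ell.exists_conj [Finite W] (hG : GG cs h T X = ⊤) {K J : Set I} {s g : Y} (hs : Ell cs h T X K s)
    (hg : g⁻¹ * s * g ∈ PJ cs h T X J) : ∃ K₁ ⊆ J, ∃ w : W, (∀ j ∈ K₁, ∃ k ∈ K, rep cs h w (sr k) = sr j) ∧
      (∀ k ∈ K, ∃ j ∈ K₁, rep cs h w (sr k) = sr j) ∧ ∃ a ∈ PJ cs h T X J,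
        Ell cs h T X K₁ ((g * a)⁻¹ * s * (g * a)) := by
  classical
  obtain ⟨K₁, hK₁, w, h1, h2, a, ha, h3⟩ := hs.exists_conj_aux R hG hg
  refine ⟨K₁, hK₁, w, h1, h2, a, ha, h3, fun b hb K' hK' hb' => ?_⟩
  obtain ⟨K₂, hK₂, w', h4, h5, -⟩ := hs.exists_conj_aux R hG (g := g * a * b) (J := K') (by
    have e : (g * a * b)⁻¹ * s * (g * a * b) = b⁻¹ * ((g * a)⁻¹ * s * (g * a)) * b := by group
    rwa [e])
  -- `|K| ≤ |K₂| ≤ |K'| ≤ |K₁| = |K|`
  have hcard : ∀ {L : Set I} {v : W}, (∀ j ∈ L, ∃ k ∈ K, rep cs h v (sr k) = sr j) →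
      (∀ k ∈ K, ∃ j ∈ L, rep cs h v (sr k) = sr j) → L.ncard = K.ncard := by
    intro L v hL hK
    have hsr : ∀ i j : I, (sr i : I → ℤ) = sr j → i = j := by
      intro i j hij
      by_contra hne
      have := congrFun hij i
      rw [sr_self, sr_ne hne] at this
      exact one_ne_zero this
    choose! f hf hf' using hK
    have himg : f '' K = L := by
      ext j
      constructor
      · rintro ⟨k, hk, rfl⟩; exact hf k hk
      · intro hj
        obtain ⟨k, hk, e⟩ := hL j hj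
        exact ⟨k, hk, hsr _ _ (by rw [← hf' k hk, e])⟩
    rw [← himg]
    refine Set.InjOn.ncard_image ?_
    intro a ha b hb hab
    apply hsr
    have e1 := hf' a ha
    have e2 := hf' b hb
    rw [hab, ← e2] at e1
    have e3 := congrArg (rep cs h v⁻¹) e1
    rwa [rep_inv_apply, rep_inv_apply] at e3
  have c1 := hcard h1 h2
  have c2 := hcard h4 h5
  have c3 := Set.ncard_le_ncard hK₂ (Set.toFinite K')
  exact Set.eq_of_subset_of_ncard_le hK' (by omega) (Set.toFinite _)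

end

/-! ### automorphisms -/

section

variable (R : RGD cs h p T n X)

include R

/-- `β` with `Diag β σ`, fixing `B`, maps `P_K` onto `P_{σ K}`. -/
theorem diag_PJ [Finite W] (hG : GG cs h T X = ⊤) {β : MulAut Y} {σ : Equiv.Perm I} (D : Diag T X β σ)
    (hB : Fix β (RGD.B cs h T X)) (K : Set I) (x : Y) : β x ∈ PJ cs h T X (σ '' K) ↔ x ∈ PJ cs h T X K := by
  let P : Subgroup Y := (PJ cs h T X (σ '' K)).comap β.toMonoidHom
  have hP : RGD.B cs h T X ≤ P := fun y hy => B_le_PJ ((hB y).2 hy)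
  have h1 := inf_eq_PJ R hP
  rw [hG, inf_top_eq] at h1
  have h2 : {i | n i ∈ P} = K := by
    ext i
    change β (n i) ∈ PJ cs h T X (σ '' K) ↔ i ∈ K
    rw [cell_mem_PJ_iff R (cell_of_rp (D.rp (R := R) i))]
    constructor
    · intro h3
      obtain ⟨j, hj, e⟩ := FixBN.Cox.mem_of_simple_mem (cs := cs) h3
      rwa [← σ.injective e]
    · intro h3
      exact simple_mem_WJ cs ⟨i, h3, rfl⟩
  rw [h2] at h1
  rw [← h1]
  rfl

/-- **Automorphisms**: a conjugate of `α` permutes the standard parabolic subgroups by a symmetry of the diagram. -/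
theorem exists_aut [Finite W] [Finite Y] [Fact p.Prime] (hG : GG cs h T X = ⊤) (α : MulAut Y) :
    ∃ (g : Y) (σ : Equiv.Perm I), Diag T X (MulAut.conj g * α) σ ∧ (∀ i j, M (σ i) (σ j) = M i j) ∧
      Fix (MulAut.conj g * α) (RGD.Sup X (RGD.Pos cs h)) ∧ Fix (MulAut.conj g * α) (RGD.B cs h T X) ∧
      ∀ (K : Set I) (x : Y), (MulAut.conj g * α) x ∈ PJ cs h T X (σ '' K) ↔ x ∈ PJ cs h T X K := by
  obtain ⟨S, hS⟩ := Cfsg.Agent.KFacts.RgdAutFacts.exists_sylow R hG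
  obtain ⟨g, hg⟩ := Cfsg.Agent.KFacts.RgdAutFacts.sylow_eq_cj R hG (α • S)
  have hU : Fix (MulAut.conj g⁻¹ * α) (RGD.Sup X (RGD.Pos cs h)) := by
    intro x
    have h1 : α x ∈ ((α • S : Sylow p Y) : Subgroup Y) ↔ x ∈ RGD.Sup X (RGD.Pos cs h) := by
      rw [← hS, Sylow.pointwise_smul_def, Subgroup.mem_pointwise_smul_iff_inv_smul_mem]
      change α⁻¹ (α x) ∈ _ ↔ _
      rw [MulAut.inv_apply_self]
    rw [← h1, hg, mem_cj, MulAut.mul_apply, MulAut.conj_apply, inv_inv]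
  obtain ⟨u, -, h1, h2, h3, h4, h5⟩ := exists_frame R hG hU
  rw [← mul_assoc, ← map_mul] at h1 h2 h3 h4 h5
  obtain ⟨σ, D⟩ := exists_diag R hG h1 h3
  exact ⟨u * g⁻¹, σ, D, fun i j => D.matrix R i j, h1, h2, fun K x => diag_PJ R hG D h2 K x⟩

omit R in
/-- the order of the root group of a node is preserved -/
theorem diag_card {β : MulAut Y} {σ : Equiv.Perm I} (D : Diag T X β σ) (i : I) :
    Nat.card (X (sr (σ i))) = Nat.card (X (sr i)) := by
  refine (Nat.card_congr (Equiv.ofBijective (fun x : X (sr i) => (⟨β x, (D.pos i x).2 x.2⟩ : X (sr (σ i))))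
    ⟨fun a b hab => ?_, fun y => ?_⟩)).symm
  · have := congrArg Subtype.val hab
    exact Subtype.ext (β.injective this)
  · obtain ⟨x, hx⟩ := β.surjective (y : Y)
    exact ⟨⟨x, (D.pos i x).1 (by rw [hx]; exact y.2)⟩, Subtype.ext hx⟩

omit R in
/-- The image of an elliptic element under an automorphism. -/
theorem Ell.aut {β : MulAut Y} {σ : Equiv.Perm I}
    (hP : ∀ (K : Set I) (x : Y), β x ∈ PJ cs h T X (σ '' K) ↔ x ∈ PJ cs h T X K) {K : Set I} {s : Y}
    (hs : Ell cs h T X K s) : Ell cs h T X (σ '' K) (β s) := by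
  refine ⟨(hP K s).2 hs.1, fun g hg K' hK' hgs => ?_⟩
  obtain ⟨g, rfl⟩ := β.surjective g
  have h1 : g ∈ PJ cs h T X K := (hP K g).1 hg
  have h2 : K' = σ '' (σ ⁻¹' K') := by rw [Set.image_preimage_eq _ σ.surjective]
  rw [h2, ← map_inv, ← map_mul, ← map_mul, hP] at hgs
  have h3 := hs.2 g h1 _ (by
    intro i hi
    obtain ⟨j, hj, e⟩ := hK' hi
    rwa [← σ.injective e]) hgs
  rw [h2, h3]

/-- **Automorphisms and elliptic elements.** -/
theorem Ell.exists_aut [Finite W] [Finite Y] [Fact p.Prime] (hG : GG cs h T X = ⊤) {K : Set I} {s : Y}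
    (hs : Ell cs h T X K s) (α : MulAut Y) : ∃ (g : Y) (σ : Equiv.Perm I), (∀ i j, M (σ i) (σ j) = M i j) ∧
      (∀ i, Nat.card (X (sr (σ i))) = Nat.card (X (sr i))) ∧ Ell cs h T X (σ '' K) (g * α s * g⁻¹) := by
  obtain ⟨g, σ, D, hM, -, -, hP⟩ := PV.exists_aut R hG α
  refine ⟨g, σ, hM, diag_card D, ?_⟩
  have := hs.aut hP
  rwa [MulAut.mul_apply, MulAut.conj_apply] at this

end

end Cfsg.Agent.H40.PV
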