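import Cfsg.Agent.H40.PV.GThreeRow
import Cfsg.Agent.H40.PV.Many
import Cfsg.Agent.H40.PV.Eig
import Cfsg.Agent.H519.Dl.RankTwo
import Cfsg.Agent.Lib.Zsigmondy
import Cfsg.Agent.S1059

/-!
# Cuspidal characters of `G₂(3^(4k))` and the row `p = 5` (helper40, S4555 / S4559)
-/

set_option autoImplicit false
set_option linter.unusedSectionVars false

open Cfsg

namespace Cfsg.Agent.H40.PV.GT

open CoxeterSystem Cfsg.Agent.ChevalleyStructure.CoxeterGeom Cfsg.Agent.Tits.Roots Cfsg.Agent.Tits.Core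
  Cfsg.Agent.Nodes.Reps Cfsg.Agent.Nodes.BNOf Cfsg.Agent.Nodes.Bruhat Cfsg.Agent.Nodes.LeviDec
open Cfsg.Lie Cfsg.Agent.ChevalleyStructure Cfsg.Agent.ChevalleyStructure.Elts
  Cfsg.Agent.ChevalleyStructure.RootVec Cfsg.Agent.ChevalleyStructure.RootVecTab
  Cfsg.Agent.ChevalleyStructure.NPerm Cfsg.Agent.ChevalleyStructure.CoxeterGeomTypes
open Cfsg.Agent.Nodes.RGDChev Cfsg.Agent.H35.ExcIdx Cfsg.Agent.H35.PoinNum Cfsg.Agent.H115.HC
  Cfsg.Agent.H115.HC.GTwo Cfsg.Agent.KFacts.RgdDiag Cfsg.Agent.H246.Dl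

universe u

/-- `|W| ≤ 12` -/
theorem card_W_le : Nat.card CoxeterMatrix.G₂.Group ≤ 12 := by
  classical
  have hfin := finite_W hpG2 cs
  choose P hP h1 h2 using orbit_PP
  have hinj : Function.Injective fun w => (⟨P w, List.mem_toFinset.2 (hP w)⟩ : PP.toFinset) := by
    intro w w' h
    have h3 : P w = P w' := congrArg Subtype.val h
    have h4 : rep cs hpG2.isCartan w (sr 0) = rep cs hpG2.isCartan w' (sr 0) := by rw [← h1 w, ← h1 w', h3]
    have h5 : rep cs hpG2.isCartan w (sr 1) = rep cs hpG2.isCartan w' (sr 1) := by rw [← h2 w, ← h2 w', h3]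
    refine eq_of_rep (cs := cs) (h := hpG2.isCartan) fun i => ?_
    have hi : i = 0 ∨ i = 1 := by
      fin_cases i
      · exact Or.inl rfl
      · exact Or.inr rfl
    rcases hi with rfl | rfl
    · exact h4
    · exact h5
  have h3 := Nat.card_le_card_of_injective _ hinj
  refine h3.trans ?_
  rw [Nat.card_eq_fintype_card, Fintype.card_coe]
  exact (List.toFinset_card_le PP)

/-! ### arithmetic -/

theorem order_6481 : (∀ m, 6481 ∣ 3 ^ m - 1 ↔ 24 ∣ m) := by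
  have h1 : orderOf ((3 : ℕ) : ZMod 6481) = 24 := by
    have key := fun m => Lib.Zsigmondy.dvd_pow_sub_one_iff (a := 3) (r := 6481) (by norm_num) m
    have h2 := (key 24).1 (by norm_num)
    have h3 : ¬ orderOf ((3 : ℕ) : ZMod 6481) ∣ 12 := fun h => absurd ((key 12).2 h) (by norm_num)
    have h4 : ¬ orderOf ((3 : ℕ) : ZMod 6481) ∣ 8 := fun h => absurd ((key 8).2 h) (by norm_num)
    generalize orderOf ((3 : ℕ) : ZMod 6481) = z at h2 h3 h4
    have h5 : z ∈ Nat.divisors 24 := Nat.mem_divisors.2 ⟨h2, by norm_num⟩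
    have h6 : ∀ z ∈ Nat.divisors 24, ¬ z ∣ 12 → ¬ z ∣ 8 → z = 24 := by decide +kernel
    exact h6 z h5 h3 h4
  intro m
  rw [Lib.Zsigmondy.dvd_pow_sub_one_iff (by norm_num), h1]

theorem order_530713 : (∀ m, 530713 ∣ 3 ^ m - 1 ↔ 36 ∣ m) := by
  have h1 : orderOf ((3 : ℕ) : ZMod 530713) = 36 := by
    have key := fun m => Lib.Zsigmondy.dvd_pow_sub_one_iff (a := 3) (r := 530713) (by norm_num) m
    have h2 := (key 36).1 (by norm_num)
    have h3 : ¬ orderOf ((3 : ℕ) : ZMod 530713) ∣ 12 := fun h => absurd ((key 12).2 h) (by norm_num)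
    have h4 : ¬ orderOf ((3 : ℕ) : ZMod 530713) ∣ 18 := fun h => absurd ((key 18).2 h) (by norm_num)
    generalize orderOf ((3 : ℕ) : ZMod 530713) = z at h2 h3 h4
    have h5 : z ∈ Nat.divisors 36 := Nat.mem_divisors.2 ⟨h2, by norm_num⟩
    have h6 : ∀ z ∈ Nat.divisors 36, ¬ z ∣ 12 → ¬ z ∣ 18 → z = 36 := by decide +kernel
    exact h6 z h5 h3 h4
  intro m
  rw [Lib.Zsigmondy.dvd_pow_sub_one_iff (by norm_num), h1]

/-- a large prime dividing `q⁴ + q² + 1`, `q = 3^(4k)` -/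
theorem exists_prime_of {k : ℕ} (hk : 0 < k) :
    ∃ ℓ : ℕ, ℓ.Prime ∧ 170 ≤ ℓ ∧ ℓ ∣ (3 ^ (4 * k)) ^ 6 - 1 ∧ ¬ ℓ ∣ (3 ^ (4 * k)) ^ 2 - 1 := by
  rw [← pow_mul, ← pow_mul]
  by_cases h3 : 3 ∣ k
  · by_cases h9 : 9 ∣ k
    · obtain ⟨ℓ, hℓ, h1, h2, -⟩ := Lib.Zsigmondy.exists_primitive (a := 3) (n := 4 * k * 6) (by norm_num) (by omega)
        (fun h => by omega) (fun h => by omega)
      refine ⟨ℓ, hℓ, ?_, (h1 _).2 dvd_rfl, fun h => ?_⟩
      · obtain ⟨j, rfl⟩ := h9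
        have h4 := Nat.le_of_dvd (by have := hℓ.two_le; omega) h2
        omega
      · have h4 := Nat.le_of_dvd (by omega) ((h1 _).1 h)
        omega
    · refine ⟨530713, by norm_num, by norm_num, (order_530713 _).2 ?_, fun h => ?_⟩
      · omega
      · have := (order_530713 _).1 h
        omega
  · refine ⟨6481, by norm_num, by norm_num, (order_6481 _).2 ?_, fun h => ?_⟩
    · omega
    · have := (order_6481 _).1 h
      omega

/-! ### the cuspidal character -/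

variable {K : Type u} [Field K] [Fintype K]

/-- the torus has exponent `q - 1` -/
theorem pow_T {t : ↥(chevG2.group K)} (ht : t ∈ TT chevG2 K) : t ^ (Fintype.card K - 1) = 1 := by
  obtain ⟨a, b, ha, hb, rfl⟩ := exists_hh ht
  have hc : Commute (hh K 0 a) (hh K 1 b) := TT_comm _ (hh_mem 0 ha) _ (hh_mem 1 hb)
  rw [hc.mul_pow, hh_pow 0 ha, hh_pow 1 hb, FiniteField.pow_card_sub_one_eq_one a ha,
    FiniteField.pow_card_sub_one_eq_one b hb, hh_one, hh_one, one_mul]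

theorem not_dvd_card_PJ {r : ℕ} [Fact r.Prime] [CharP K r] {ℓ : ℕ} (hℓ : ℓ.Prime) (h0 : ¬ ℓ ∣ Fintype.card K)
    (h1 : ¬ ℓ ∣ Fintype.card K ^ 2 - 1) (i : Fin 2) :
    ¬ ℓ ∣ Nat.card ↥(PJ cs hpG2.isCartan (TT chevG2 K) (XX chevG2 2 K) {i}) := by
  classical
  have hfin := finite_W hpG2 cs
  have R := rgd (K := K) hpG2 cs r
  have := Fintype.ofFinite ↥(chevG2.group K)
  have hq : 1 < Fintype.card K := Fintype.one_lt_card
  have hfac : Fintype.card K ^ 2 - 1 = (Fintype.card K + 1) * (Fintype.card K - 1) := by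
    have := Nat.sq_sub_sq (Fintype.card K) 1
    rwa [one_pow] at this
  rw [hfac] at h1
  rw [H519.Dl.card_PJ_single R i, card_XX hpG2 K cs (isRoot_sr _ hpG2.isCartan i), Nat.card_eq_fintype_card]
  intro h
  rcases hℓ.dvd_mul.1 h with h | h
  · exact h1 ((by rwa [add_comm] at h : ℓ ∣ Fintype.card K + 1).mul_right _)
  · rcases hℓ.dvd_mul.1 h with h | h
    · obtain ⟨m, hm⟩ := (IsPGroup.iff_card).1 (RGD.isPGroup_Upos R)
      rw [hm] at h
      have h2 := (Nat.prime_dvd_prime_iff_eq hℓ (Fact.out : r.Prime)).1 (hℓ.dvd_of_dvd_pow h)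
      subst h2
      apply h0
      obtain ⟨⟨k, hk⟩, -, hcard⟩ := FiniteField.card K ℓ
      rw [hcard]
      exact dvd_pow_self ℓ hk.ne'
    · have := Fact.mk hℓ
      obtain ⟨t, ht⟩ := exists_prime_orderOf_dvd_card' (G := ↥(TT chevG2 K)) ℓ h
      have h2 : t ^ (Fintype.card K - 1) = 1 := Subtype.ext (pow_T t.2)
      have h3 := orderOf_dvd_of_pow_eq_one h2
      rw [ht] at h3
      exact h1 (h3.mul_left _)

/-- **A cuspidal character.** -/
theorem exists_cusp {r : ℕ} [Fact r.Prime] [CharP K r] {ℓ : ℕ} (hℓ : ℓ.Prime) (h170 : 170 ≤ ℓ)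
    (h0 : ¬ ℓ ∣ Fintype.card K) (h6 : ℓ ∣ Fintype.card K ^ 6 - 1) (h2 : ¬ ℓ ∣ Fintype.card K ^ 2 - 1) :
    ∃ χ : IrrCharacter ↥(chevG2.group K), ∀ i : Fin 2,
      ¬ HasFix (χ : ↥(chevG2.group K) → ℂ) (VJ cs hpG2.isCartan (XX chevG2 2 K) {i}) := by
  classical
  have hfin := finite_W hpG2 cs
  have R := rgd (K := K) hpG2 cs r
  have := Fintype.ofFinite ↥(chevG2.group K)
  have := Fact.mk hℓ
  have hcard : Nat.card ↥(chevG2.group K) =
      Fintype.card K ^ 6 * (Fintype.card K ^ 2 - 1) * (Fintype.card K ^ 6 - 1) := Cfsg.Agent.S1059.result rfl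
  obtain ⟨g, hg⟩ := exists_prime_orderOf_dvd_card' (G := ↥(chevG2.group K)) ℓ (by
    rw [hcard]
    exact h6.mul_left _)
  have hgℓ : g ^ ℓ = 1 := by rw [← hg, pow_orderOf_eq_one]
  have hg1 : g ≠ 1 := by
    rintro rfl
    rw [orderOf_one] at hg
    exact hℓ.one_lt.ne hg
  have hK0 : (ℓ : K) ≠ 0 := by
    intro h
    have h3 := (CharP.cast_eq_zero_iff K r ℓ).1 h
    have h4 := (Nat.prime_dvd_prime_iff_eq (Fact.out : r.Prime) hℓ).1 h3
    subst h4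
    apply h0
    obtain ⟨⟨k, hk⟩, -, hc⟩ := FiniteField.card K r
    rw [hc]
    exact dvd_pow_self r hk.ne'
  have hle := card_fus_le (chevG2.group K).subtype hK0 hgℓ (fun h => hg1 (Subtype.ext h))
  have hidx : Fintype.card chevG2.Idx = 14 := by decide +kernel
  rw [hidx] at hle
  obtain ⟨s, hs, hagree⟩ := exists_long_orbit (n := 12) hgℓ (by
    have : Nat.card (fus g hgℓ) * 12 ≤ 14 * 12 := Nat.mul_le_mul_right 12 hle
    omega)
  obtain ⟨χ, hχ⟩ : s.Nonempty := Finset.card_pos.1 (by omega)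
  refine ⟨χ, fun i => ?_⟩
  refine not_hasFix R (GG_eq_top hpG2 K _) s (lt_of_le_of_lt card_W_le hs) (fun j χ₁ h₁ χ₂ h₂ x hx => ?_) hχ i
  refine hagree χ₁ h₁ χ₂ h₂ x ?_
  have h3 : orderOf x ∣ Nat.card ↥(PJ cs hpG2.isCartan (TT chevG2 K) (XX chevG2 2 K) {j}) := by
    rw [← Subgroup.orderOf_mk x hx]
    exact orderOf_dvd_natCard _
  rw [Nat.coprime_comm, Nat.Prime.coprime_iff_not_dvd hℓ]
  exact fun h => not_dvd_card_PJ (r := r) hℓ h0 h2 j (h.trans h3)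

theorem exps_five : ∀ s < 12, (∀ k : Fin 2, 0 ≤ vec chevG2 2 s k) → 0 < vec chevG2 2 s 0 →
    0 < 2 * chevG2.cartan (0 : Fin 2) s + 3 * chevG2.cartan (1 : Fin 2) s ∧
    2 * chevG2.cartan (0 : Fin 2) s + 3 * chevG2.cartan (1 : Fin 2) s ≤ 4 := by decide +kernel

/-- elements of order 5 -/
theorem vz_five {χ : IrrCharacter ↥(chevG2.group K)} (hχ : ∀ i : Fin 2,
      ¬ HasFix (χ : ↥(chevG2.group K) → ℂ) (VJ cs hpG2.isCartan (XX chevG2 2 K) {i})) {d : Kˣ}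
    (hd : orderOf d = 5) :
    H713.VZ ↥(chevG2.group K) (hh K 0 ((d ^ 2 : Kˣ) : K) * hh K 1 ((d ^ 3 : Kˣ) : K)) := by
  classical
  obtain ⟨p, hch⟩ := CharP.exists K
  have : Fact p.Prime := ⟨CharP.char_is_prime K p⟩
  have hfin := finite_W hpG2 cs
  have R := rgd (K := K) hpG2 cs p
  have := Fintype.ofFinite ↥(chevG2.group K)
  have ht := mul_mem (hh_mem (K := K) 0 (d ^ 2).ne_zero) (hh_mem (K := K) 1 (d ^ 3).ne_zero)
  refine H526.Van.vz_of_not_fix R (GG_eq_top hpG2 K _) χ.2 (J := {1}) (fun J' hJ' _ _ => ?_)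
    (LJ_le_PJ (T_le_LJ ht)) (H526.Van.cent_VJ R ht ?_)
  · rw [Set.ncard_singleton, Set.ncard_eq_one] at hJ'
    obtain ⟨j, rfl⟩ := hJ'
    exact hχ j
  · rintro x ⟨hx, hx0, k, hk, hk0⟩ u hu hc
    obtain ⟨s, hs, rfl⟩ := (isRoot_iff hpG2 cs x).1 hx
    obtain ⟨v, rfl⟩ := (XX_iff hs rfl).1 hu
    have hk' : k = 0 := by
      by_contra h1
      apply hk
      have h2 : ∀ k : Fin 2, k ≠ 0 → k = 1 := by decide
      exact h2 k h1
    subst hk'
    obtain ⟨h1, h2⟩ := exps_five s (by rw [← nroots_eq]; exact hs) (fun k => hx0 k) hk0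
    rw [free_of_scal hs ht ?_ hc, xx_zero]
    rw [scal_mul hs (d ^ 2) (d ^ 3), ← zpow_natCast, ← zpow_natCast, ← zpow_mul, ← zpow_mul, ← zpow_add]
    intro h3
    have h4 := orderOf_dvd_iff_zpow_eq_one.2 h3
    rw [hd] at h4
    push_cast at h4
    have h5 := Int.le_of_dvd h1 h4
    omega

theorem five_pow (d : Kˣ) : (hh K 0 ((d ^ 2 : Kˣ) : K) * hh K 1 ((d ^ 3 : Kˣ) : K)) ^ 5 =
    hh K 0 (((d ^ 5) ^ 2 : Kˣ) : K) * hh K 1 (((d ^ 5) ^ 3 : Kˣ) : K) := by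
  have hc : Commute (hh K 0 ((d ^ 2 : Kˣ) : K)) (hh K 1 ((d ^ 3 : Kˣ) : K)) :=
    TT_comm _ (hh_mem 0 (d ^ 2).ne_zero) _ (hh_mem 1 (d ^ 3).ne_zero)
  rw [hc.mul_pow, hh_pow 0 (d ^ 2).ne_zero, hh_pow 1 (d ^ 3).ne_zero, ← Units.val_pow_eq_pow_val,
    ← Units.val_pow_eq_pow_val, ← pow_mul, ← pow_mul, ← pow_mul, ← pow_mul]

/-- **`G₂(3^(4k))`, `p = 5`.** -/
theorem row_five {k : ℕ} (hk : 0 < k) (hK : Fintype.card K = 3 ^ (4 * k)) :
    H620.PNorm.VOrdP 5 ↥(chevG2.group K) := by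
  classical
  obtain ⟨r, hch⟩ := CharP.exists K
  have : Fact r.Prime := ⟨CharP.char_is_prime K r⟩
  obtain ⟨ℓ, hℓ, h170, h6, h2⟩ := exists_prime_of hk
  obtain ⟨χ, hχ⟩ := exists_cusp (K := K) (r := r) hℓ h170 (by
    rw [hK]
    intro h
    have := (Nat.prime_dvd_prime_iff_eq hℓ Nat.prime_three).1 (hℓ.dvd_of_dvd_pow h)
    omega) (by rw [hK]; exact h6) (by rw [hK]; exact h2)
  have h5 : 5 ∣ Fintype.card Kˣ := by
    rw [Fintype.card_units, hK, pow_mul]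
    have h7 : 3 ^ 4 ≡ 1 [MOD 5] := by decide
    have h8 := h7.pow k
    rw [one_pow] at h8
    exact (Nat.modEq_iff_dvd' (Nat.one_le_pow _ _ (by norm_num))).1 h8.symm
  have := Fact.mk Nat.prime_five
  obtain ⟨d, hd⟩ := exists_prime_orderOf_dvd_card (G := Kˣ) 5 h5
  refine ⟨_, orderOf_eq_prime ?_ ?_, vz_five hχ hd⟩
  · rw [five_pow, ← hd, pow_orderOf_eq_one, one_pow, one_pow, Units.val_one, hh_one, hh_one, one_mul]
  · intro h1
    have g7 : 7 < chevG2.nroots := by decide +kernel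
    have h2 : scal K 7 g7 ⟨hh K 0 ((d ^ 2 : Kˣ) : K) * hh K 1 ((d ^ 3 : Kˣ) : K),
        mul_mem (hh_mem 0 (d ^ 2).ne_zero) (hh_mem 1 (d ^ 3).ne_zero)⟩ = 1 := by
      have h3 : (⟨hh K 0 ((d ^ 2 : Kˣ) : K) * hh K 1 ((d ^ 3 : Kˣ) : K),
        mul_mem (hh_mem 0 (d ^ 2).ne_zero) (hh_mem 1 (d ^ 3).ne_zero)⟩ : ↥(TT chevG2 K)) = 1 := Subtype.ext h1
      rw [h3, map_one]
    rw [scal_mul g7] at h2
    have c0 : chevG2.cartan (0 : Fin 2) 7 = 2 := by decide +kernel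
    have c1 : chevG2.cartan (1 : Fin 2) 7 = -1 := by decide +kernel
    rw [c0, c1] at h2
    have h3 : d = 1 := by
      rw [← h2]
      group
    rw [h3, orderOf_one] at hd
    exact absurd hd (by norm_num)

end Cfsg.Agent.H40.PV.GT
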