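import Cfsg.Agent.Characters.GaloisIrr
import Cfsg.Agent.H139.Cusp.Orth

/-!
# Long Galois orbits of irreducible characters (helper40, S4555 / S4559)

`exists_long_orbit` : `g ∈ G` of prime order `ℓ`, `N = {k ∈ (ℤ/ℓ)ˣ : g ~ g^k}`, `n |N| < ℓ - 1`. Then there are more
than `n` irreducible characters with the same values at all elements of order prime to `ℓ`.
-/

set_option autoImplicit false

open scoped ComplexConjugate
open Cfsg

namespace Cfsg.Agent.H40.PV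

open Cfsg.Agent.Characters

section

variable {G : Type*} [Group G]

/-- the power of `g` -/
def gp {ℓ : ℕ} (g : G) (u : (ZMod ℓ)ˣ) : G := g ^ (u : ZMod ℓ).val

theorem gp_eq {ℓ : ℕ} [NeZero ℓ] {g : G} (hg : g ^ ℓ = 1) (u : (ZMod ℓ)ˣ) {m : ℕ} (hm : (m : ZMod ℓ) = u) :
    gp g u = g ^ m := by
  unfold gp
  have h1 : (u : ZMod ℓ).val ≡ m [MOD ℓ] := by
    rw [← ZMod.natCast_eq_natCast_iff, ZMod.natCast_val, ZMod.cast_id', id_eq, hm]
  exact pow_eq_pow_of_modEq h1 hg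

theorem gp_mul {ℓ : ℕ} [NeZero ℓ] {g : G} (hg : g ^ ℓ = 1) (u v : (ZMod ℓ)ˣ) {m : ℕ} (hm : (m : ZMod ℓ) = v) :
    gp g (u * v) = gp g u ^ m := by
  rw [gp_eq hg (u * v) (m := (u : ZMod ℓ).val * m) (by
    push_cast
    rw [ZMod.natCast_val, ZMod.cast_id', id_eq, hm]), pow_mul]
  rfl

theorem gp_one {ℓ : ℕ} [NeZero ℓ] {g : G} (hg : g ^ ℓ = 1) : gp g (1 : (ZMod ℓ)ˣ) = g := by
  rw [gp_eq hg 1 (m := 1) (by simp), pow_one]

/-- raising to a power prime to the group order reflects conjugacy -/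
theorem isConj_of_pow [Finite G] {m : ℕ} (hm : m.Coprime (Nat.card G)) {x y : G} (h : IsConj (x ^ m) (y ^ m)) :
    IsConj x y := by
  obtain ⟨c, hc⟩ := isConj_iff.1 h
  refine isConj_iff.2 ⟨c, ?_⟩
  have h1 : (c * x * c⁻¹) ^ m = y ^ m := by
    rw [conj_pow]
    exact hc
  exact (powCoprime (G := G) hm.symm).injective (by simpa using h1)

/-- the powers of `g` conjugate to `g` -/
def fus {ℓ : ℕ} [NeZero ℓ] (g : G) (hg : g ^ ℓ = 1) : Subgroup (ZMod ℓ)ˣ where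
  carrier := {k | IsConj g (gp g k)}
  one_mem' := by
    show IsConj g (gp g 1)
    rw [gp_one hg]
  mul_mem' := by
    intro k k' hk hk'
    show IsConj g (gp g (k * k'))
    rw [gp_mul hg k k' (m := (k' : ZMod ℓ).val) (by rw [ZMod.natCast_val, ZMod.cast_id', id_eq])]
    have h1 : IsConj (g ^ (k' : ZMod ℓ).val) (gp g k ^ (k' : ZMod ℓ).val) := hk.pow _
    exact hk'.trans h1
  inv_mem' := by
    intro k hk
    show IsConj g (gp g k⁻¹)
    have h1 : IsConj (g ^ ((k⁻¹ : (ZMod ℓ)ˣ) : ZMod ℓ).val) (gp g k ^ ((k⁻¹ : (ZMod ℓ)ˣ) : ZMod ℓ).val) := hk.pow _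
    rw [← gp_mul hg k k⁻¹ (by rw [ZMod.natCast_val, ZMod.cast_id', id_eq]), mul_inv_cancel, gp_one hg] at h1
    exact h1.symm

theorem mem_fus {ℓ : ℕ} [NeZero ℓ] {g : G} {hg : g ^ ℓ = 1} {k : (ZMod ℓ)ˣ} : k ∈ fus g hg ↔ IsConj g (gp g k) :=
  Iff.rfl

open Classical in
/-- the class function -/
noncomputable def ff {ℓ : ℕ} [NeZero ℓ] (g : G) (ε : (ZMod ℓ)ˣ →* ℂˣ) (x : G) : ℂ :=
  ∑ k : (ZMod ℓ)ˣ, if IsConj x (gp g k) then (ε k : ℂ) else 0

theorem ff_class {ℓ : ℕ} [NeZero ℓ] (g : G) (ε : (ZMod ℓ)ˣ →* ℂˣ) : IsClassFunction G (ff g ε) := by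
  classical
  intro x y
  unfold ff
  refine Finset.sum_congr rfl fun k _ => ?_
  have h1 : IsConj (y * x * y⁻¹) x := (isConj_iff.2 ⟨y, rfl⟩ : IsConj x (y * x * y⁻¹)).symm
  have h2 : IsConj (y * x * y⁻¹) (gp g k) ↔ IsConj x (gp g k) := ⟨fun h => h1.symm.trans h, fun h => h1.trans h⟩
  by_cases h3 : IsConj x (gp g k)
  · rw [if_pos h3, if_pos (h2.2 h3)]
  · rw [if_neg h3, if_neg fun h => h3 (h2.1 h)]

theorem ff_self {ℓ : ℕ} [NeZero ℓ] {g : G} (hg : g ^ ℓ = 1) {ε : (ZMod ℓ)ˣ →* ℂˣ} (hε : ∀ k ∈ fus g hg, ε k = 1) :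
    ff g ε g ≠ 0 := by
  classical
  have h1 : ff g ε g = (((Finset.univ.filter fun k : (ZMod ℓ)ˣ => IsConj g (gp g k)).card : ℕ) : ℂ) := by
    unfold ff
    rw [← Finset.sum_filter, Finset.sum_congr rfl (g := fun _ => (1 : ℂ)), Finset.sum_const, nsmul_eq_mul, mul_one]
    intro k hk
    rw [hε k (Finset.mem_filter.1 hk).2, Units.val_one]
  rw [h1]
  have h2 : 0 < (Finset.univ.filter fun k : (ZMod ℓ)ˣ => IsConj g (gp g k)).card :=
    Finset.card_pos.2 ⟨1, Finset.mem_filter.2 ⟨Finset.mem_univ _, (fus g hg).one_mem⟩⟩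
  exact_mod_cast h2.ne'

theorem ff_pow [Finite G] {ℓ : ℕ} [NeZero ℓ] {g : G} (hg : g ^ ℓ = 1) (ε : (ZMod ℓ)ˣ →* ℂˣ) {m : ℕ}
    (hm : m.Coprime (Nat.card G)) {v : (ZMod ℓ)ˣ} (hv : (m : ZMod ℓ) = v) (x : G) :
    ff g ε (x ^ m) = ε v * ff g ε x := by
  classical
  unfold ff
  rw [Finset.mul_sum]
  symm
  refine Fintype.sum_equiv (Equiv.mulRight v) _ _ fun k => ?_
  show (ε v : ℂ) * (if IsConj x (gp g k) then (ε k : ℂ) else 0) =
    if IsConj (x ^ m) (gp g (k * v)) then (ε (k * v) : ℂ) else 0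
  rw [gp_mul hg k v hv, map_mul, Units.val_mul]
  by_cases h : IsConj x (gp g k)
  · rw [if_pos h, if_pos (h.pow m), mul_comm]
  · rw [if_neg h, if_neg fun h2 => h (isConj_of_pow hm h2), mul_zero]

/-- **Long Galois orbits.** -/
theorem exists_long_orbit [Finite G] {ℓ : ℕ} [hℓ : Fact ℓ.Prime] {g : G} (hg : g ^ ℓ = 1) {n : ℕ}
    (hn : Nat.card (fus g hg) * n < ℓ - 1) :
    ∃ s : Finset (IrrCharacter G), n < s.card ∧ ∀ χ ∈ s, ∀ χ' ∈ s, ∀ x : G, (orderOf x).Coprime ℓ →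
      (χ : G → ℂ) x = (χ' : G → ℂ) x := by
  classical
  have := Fintype.ofFinite G
  obtain ⟨θ, hθ⟩ := Cfsg.Agent.H139.Cusp.exists_theta (ZMod ℓ)
  set μ : (ZMod ℓ)ˣ →* ℂˣ := Units.map (θ : ZMod ℓ →* ℂ) with hμdef
  have hμ : Function.Injective μ := by
    intro a b hab
    apply Units.ext
    apply hθ
    have := congrArg Units.val hab
    exact this
  set e := Nat.card (fus g hg) with he
  set ε : (ZMod ℓ)ˣ →* ℂˣ := μ ^ e with hεdef
  have hεa : ∀ k, ε k = μ k ^ e := fun k => rfl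
  have hε1 : ∀ k ∈ fus g hg, ε k = 1 := by
    intro k hk
    have h1 : (⟨k, hk⟩ : fus g hg) ^ e = 1 := by rw [he]; exact pow_card_eq_one'
    have h2 : k ^ e = 1 := congrArg Subtype.val h1
    rw [hεa, ← map_pow, h2, map_one]
  -- a generator
  obtain ⟨c, hc⟩ := IsCyclic.exists_generator (α := (ZMod ℓ)ˣ)
  have hoc : orderOf c = ℓ - 1 := by
    rw [orderOf_eq_card_of_forall_mem_zpowers hc, Nat.card_eq_fintype_card, ZMod.card_units]
  have he0 : 0 < e := Nat.card_pos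
  have hinj : ∀ i j : ℕ, i < j → j ≤ n → ε (c ^ i) ≠ ε (c ^ j) := by
    intro i j hij hjn h1
    rw [hεa, hεa, ← map_pow, ← map_pow] at h1
    have h2 := hμ h1
    rw [← pow_mul, ← pow_mul] at h2
    have h3 : c ^ ((j - i) * e) = 1 := by
      have h4 : c ^ (j * e) = c ^ (i * e) * c ^ ((j - i) * e) := by
        rw [← pow_add]
        congr 1
        rw [← add_mul]
        congr 1
        omega
      rw [h4] at h2
      exact (mul_eq_left.1 h2.symm)
    have h5 := Nat.le_of_dvd (Nat.mul_pos (by omega) he0) (orderOf_dvd_of_pow_eq_one h3)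
    rw [hoc] at h5
    have h6 : (j - i) * e ≤ e * n := by
      rw [mul_comm]
      exact Nat.mul_le_mul_left e (by omega)
    omega
  -- the character
  obtain ⟨χ, hχ⟩ : ∃ χ : IrrCharacter G, classInner (ff g ε) (χ : G → ℂ) ≠ 0 := by
    by_contra hno
    push Not at hno
    have h1 := Core.classFunction_eq_zero (ff_class g ε) fun χ hχ => hno ⟨χ, hχ⟩
    exact ff_self hg hε1 (congrFun h1 g)
  -- the powers
  obtain ⟨a, b, hb, hab⟩ := Nat.exists_eq_pow_mul_and_not_dvd (n := Nat.card G) Nat.card_pos.ne' ℓ hℓ.out.ne_one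
  have hcop : ℓ.Coprime b := (Nat.Prime.coprime_iff_not_dvd hℓ.out).2 hb
  have hm : ∀ i : ℕ, ∃ m : ℕ, m.Coprime (Nat.card G) ∧ (m : ZMod ℓ) = (c ^ i : (ZMod ℓ)ˣ) ∧ m ≡ 1 [MOD b] := by
    intro i
    obtain ⟨m, h1, h2⟩ := Nat.chineseRemainder hcop (((c ^ i : (ZMod ℓ)ˣ) : ZMod ℓ).val) 1
    have h3 : (m : ZMod ℓ) = (c ^ i : (ZMod ℓ)ˣ) := by
      have h4 := (ZMod.natCast_eq_natCast_iff _ _ _).2 h1
      rw [h4, ZMod.natCast_val, ZMod.cast_id', id_eq]
    refine ⟨m, ?_, h3, h2⟩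
    rw [hab]
    refine Nat.Coprime.mul_right ?_ ?_
    · refine Nat.Coprime.pow_right a ?_
      rw [Nat.coprime_comm, Nat.Prime.coprime_iff_not_dvd hℓ.out]
      intro h5
      have h6 : (m : ZMod ℓ) = 0 := (ZMod.natCast_eq_zero_iff _ _).2 h5
      rw [h6] at h3
      exact (c ^ i).ne_zero h3.symm
    · have h5 := h2.gcd_eq
      rw [Nat.gcd_one_left] at h5
      exact h5
  choose m hmc hmv hmb using hm
  let χs : ℕ → IrrCharacter G := fun i => ⟨fun x => (χ : G → ℂ) (x ^ m i), GaloisIrr.isIrr_pow (hmc i) χ.2⟩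
  have hval : ∀ i, classInner (ff g ε) (χ : G → ℂ) = ε (c ^ i) * classInner (ff g ε) (χs i : G → ℂ) := by
    intro i
    rw [Core.classInner_def, Core.classInner_def, ← mul_assoc, mul_comm ((ε (c ^ i) : ℂˣ) : ℂ), mul_assoc]
    congr 1
    symm
    rw [Finset.mul_sum]
    refine Fintype.sum_equiv (powCoprime (G := G) (hmc i).symm) _ _ fun x => ?_
    rw [powCoprime_apply, ff_pow hg ε (hmc i) (hmv i)]
    show _ * (_ * conj ((χ : G → ℂ) (x ^ m i))) = _
    ring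
  have hχinj : ∀ i j : ℕ, i < j → j ≤ n → χs i ≠ χs j := by
    intro i j hij hjn h1
    have h2 := hval i
    have h3 := hval j
    rw [h1] at h2
    have h4 : classInner (ff g ε) (χs j : G → ℂ) ≠ 0 := by
      intro h5
      rw [h5, mul_zero] at h3
      exact hχ h3
    have h5 := mul_right_cancel₀ h4 (h2.symm.trans h3)
    exact hinj i j hij hjn (Units.ext h5)
  refine ⟨(Finset.range (n + 1)).image χs, ?_, ?_⟩
  · rw [Finset.card_image_of_injOn, Finset.card_range]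
    · exact Nat.lt_succ_self n
    · intro i hi j hj hij
      have hi' : i < n + 1 := Finset.mem_range.1 (Finset.mem_coe.1 hi)
      have hj' : j < n + 1 := Finset.mem_range.1 (Finset.mem_coe.1 hj)
      rcases lt_trichotomy i j with h | h | h
      · exact absurd hij (hχinj i j h (by omega))
      · exact h
      · exact absurd hij.symm (hχinj j i h (by omega))
  · have key : ∀ i, ∀ x : G, (orderOf x).Coprime ℓ → (χs i : G → ℂ) x = (χ : G → ℂ) x := by
      intro i x hx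
      show (χ : G → ℂ) (x ^ m i) = _
      have h1 : orderOf x ∣ b := by
        have h2 := orderOf_dvd_natCard x
        rw [hab] at h2
        exact (Nat.Coprime.pow_right a hx).dvd_of_dvd_mul_left h2
      have h3 : x ^ m i = x ^ 1 := pow_eq_pow_iff_modEq.2 ((hmb i).of_dvd h1)
      rw [h3, pow_one]
    intro χ₁ h1 χ₂ h2 x hx
    obtain ⟨i, -, rfl⟩ := Finset.mem_image.1 h1
    obtain ⟨j, -, rfl⟩ := Finset.mem_image.1 h2
    rw [key i x hx, key j x hx]

end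

end Cfsg.Agent.H40.PV
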