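import Cfsg.Agent.H40.PV.Ell
import Cfsg.Agent.H115.HC.RankTwo
import Cfsg.Agent.H720.PV.Regular
import Cfsg.Agent.Characters.Values
import Cfsg.Agent.KFacts.RgdRigid

/-!
# Zeros of Harish-Chandra induced characters of the rank one parabolic subgroups (helper40, S4555 / S4559)

* `exists_of_mem_T` : `x ∈ T`, `g⁻¹ x g ∈ P_J`: `g⁻¹ x g` is conjugate under `P_J` to `(k x k⁻¹) u`, `u ∈ U`, `k` a
  representative of an element of `W`;
* `IndC i χ` : `χ` is irreducible and induced from a cuspidal character of `P_{i}`;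
* `IndC.zero_of_not_mem`, `IndC.zero_of_free` : zeros of `χ`;
* `exists_indC_G2` : the characters for type `G₂`.
-/

set_option autoImplicit false
set_option linter.unusedSectionVars false

open scoped ComplexConjugate
open Cfsg

namespace Cfsg.Agent.H40.PV

open CoxeterSystem Cfsg.Agent.ChevalleyStructure.CoxeterGeom Cfsg.Agent.Tits.Roots Cfsg.Agent.Tits.Core
  Cfsg.Agent.Tits.Exchange Cfsg.Agent.Nodes.Reps Cfsg.Agent.Nodes.BNOf Cfsg.Agent.Nodes.StabComb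
  Cfsg.Agent.Nodes.Bruhat Cfsg.Agent.Nodes.OppDec Cfsg.Agent.Nodes.LeviDec Cfsg.Agent.H53.HC
  Cfsg.Agent.FixOdd.Cox Cfsg.Agent.KFacts.RgdAut Cfsg.Agent.KFacts.RgdDiag Cfsg.Agent.Characters
  Cfsg.Agent.H115.HC Cfsg.Agent.OddOrderCharacters.Clifford

/-- elements in the kernel of a character -/
theorem apply_mul_of_ker {L : Type*} [Group L] [Finite L] {χ : L → ℂ} (hχ : IsCharacter L χ) {k : L}
    (hk : χ k = χ 1) (x : L) : χ (x * k) = χ x := by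
  have := Fintype.ofFinite L
  obtain ⟨n, ρ, rfl⟩ := hχ
  have h1 : ρ k = LinearMap.id := by
    rw [← Cfsg.Agent.Characters.Values.character_eq_finrank_iff, hk]
    simp
  have h2 : ρ (x * k) = ρ x := by
    rw [map_mul, h1]
    rfl
  change LinearMap.trace ℂ _ (ρ (x * k)) = LinearMap.trace ℂ _ (ρ x)
  rw [h2]

variable {I W Y : Type*} [Fintype I] [DecidableEq I] [Group W] [Group Y] {M : CoxeterMatrix I}
  {cs : CoxeterSystem M W} {A : I → I → ℤ} {h : IsCartan M A} {p : ℕ} {T : Subgroup Y} {n : I → Y}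
  {X : (I → ℤ) → Subgroup Y}

section

variable (R : RGD cs h p T n X)

include R

theorem mem_B_of_mem_PJ_empty [Finite W] {b : Y} (hb : b ∈ PJ cs h T X ∅) : b ∈ RGD.B cs h T X := by
  obtain ⟨w, hw, hc⟩ := (mem_PJ_iff_cell R).1 hb
  rw [WJ_empty hw] at hc
  exact hc.mem_of_one

/-- **Torus elements of parabolic subgroups.** -/
theorem exists_of_mem_T [Finite W] [Finite Y] (hG : GG cs h T X = ⊤)
    (hTc : ∀ a ∈ T, ∀ b ∈ T, a * b = b * a) {J : Set I} {x g : Y} (hx : x ∈ T) (hg : g⁻¹ * x * g ∈ PJ cs h T X J) :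
    ∃ a ∈ PJ cs h T X J, ∃ w k, Rp cs R.nsys w k ∧ ∃ u ∈ RGD.Sup X (RGD.Pos cs h),
      a⁻¹ * (g⁻¹ * x * g) * a = k * x * k⁻¹ * u := by
  obtain ⟨a, ha, b, hb, w, k, hk, e, hL, hR⟩ := exists_min_pair R hG J ∅ g⁻¹
  have hbB := mem_B_of_mem_PJ_empty R hb
  obtain ⟨t₁, ht₁, u₁, hu₁, rfl⟩ := R.mem_B.1 hbB
  have hTn := R.T_le_normalizer_U
  -- `b x b⁻¹ = x u₂`
  set u₂ := t₁ * ((x⁻¹ * u₁ * x) * u₁⁻¹) * t₁⁻¹ with hu₂
  have hu₂U : u₂ ∈ RGD.Sup X (RGD.Pos cs h) := by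
    have h1 : x⁻¹ * u₁ * x ∈ RGD.Sup X (RGD.Pos cs h) := by
      have := (Subgroup.mem_normalizer_iff.1 (hTn (inv_mem hx)) u₁).1 hu₁
      rwa [inv_inv] at this
    exact (Subgroup.mem_normalizer_iff.1 (hTn ht₁) _).1 (mul_mem h1 (inv_mem hu₁))
  have e1 : t₁ * u₁ * x * (t₁ * u₁)⁻¹ = x * u₂ := by
    have h1 := hTc t₁ ht₁ x hx
    calc t₁ * u₁ * x * (t₁ * u₁)⁻¹ = (t₁ * x) * (x⁻¹ * u₁ * x * u₁⁻¹) * t₁⁻¹ := by group
      _ = (x * t₁) * (x⁻¹ * u₁ * x * u₁⁻¹) * t₁⁻¹ := by rw [h1]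
      _ = x * u₂ := by rw [hu₂]; group
  have hzJ : a⁻¹ * (g⁻¹ * x * g) * a ∈ PJ cs h T X J := mul_mem (mul_mem (inv_mem ha) hg) ha
  have hg' : g = (t₁ * u₁)⁻¹ * k⁻¹ * a⁻¹ := by
    rw [← inv_inv g, e]; group
  have e2 : a⁻¹ * (g⁻¹ * x * g) * a = k * (t₁ * u₁ * x * (t₁ * u₁)⁻¹) * k⁻¹ := by
    rw [hg']; group
  have e3 : k * (t₁ * u₁ * x * (t₁ * u₁)⁻¹) * k⁻¹ = (k * x * k⁻¹) * (k * u₂ * k⁻¹) := by
    rw [e1]; group
  have h1 : a⁻¹ * (g⁻¹ * x * g) * a ∈ PJ cs h T X (capL cs J ∅ w) := by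
    refine proj R hk hL hR hzJ ?_
    have e4 : k⁻¹ * (a⁻¹ * (g⁻¹ * x * g) * a) * k = t₁ * u₁ * x * (t₁ * u₁)⁻¹ := by rw [e2]; group
    rw [e4]
    exact mul_mem (mul_mem hb (B_le_PJ (RGD.T_le_B hx))) (inv_mem hb)
  have h2 : capL cs J ∅ w = ∅ := by
    ext i
    constructor
    · rintro ⟨-, j, hj, -⟩
      exact hj
    · exact fun hi => absurd hi (Set.notMem_empty _)
  rw [h2] at h1
  have h3 := mem_B_of_mem_PJ_empty R h1
  rw [e2, e3] at h3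
  have hT' : k * x * k⁻¹ ∈ T := by
    have := mem_normalizer_iff_cj.1 hk.mem_normalizer
    rw [← this]
    exact conj_mem_cj.2 hx
  have h4 : k * u₂ * k⁻¹ ∈ RGD.B cs h T X := by
    have := mul_mem (inv_mem (RGD.T_le_B (cs := cs) (h := h) (X := X) hT')) h3
    rwa [inv_mul_cancel_left] at this
  obtain ⟨m, hm⟩ := R.isPGroup_Upos ⟨u₂, hu₂U⟩
  have h5 : (k * u₂ * k⁻¹) ^ p ^ m = 1 := by
    rw [conj_pow]
    have := congrArg Subtype.val hm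
    rw [Subgroup.coe_pow, Subgroup.coe_one] at this
    rw [this, mul_one, mul_inv_cancel]
  exact ⟨a, ha, w, k, hk, _, R.mem_U_of_mem_B h4 h5, by rw [e2, e3]⟩

end

/-- `χ` is irreducible and Harish-Chandra induced from a cuspidal character of the parabolic subgroup of a node -/
def IndC (cs : CoxeterSystem M W) (h : IsCartan M A) (T : Subgroup Y) (X : (I → ℤ) → Subgroup Y) [Fintype Y] (i : I)
    (χ : Y → ℂ) : Prop :=
  IsIrrCharacter Y χ ∧ ∃ ψ : ↥(PJ cs h T X {i}) → ℂ, IsIrrCharacter _ ψ ∧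
    (∀ (v : Y) (hv : v ∈ VJ cs h X {i}), ψ ⟨v, VJ_le_PJ hv⟩ = ψ 1) ∧
    (∀ [Fintype ((X (sr i)).subgroupOf (PJ cs h T X {i}))],
      ∑ u : (X (sr i)).subgroupOf (PJ cs h T X {i}), ψ u = 0) ∧ χ = indFun (PJ cs h T X {i}) ψ

/-- Zeros outside the conjugates of the parabolic subgroup. -/
theorem IndC.zero_of_not_mem [Fintype Y] {i : I} {χ : Y → ℂ} (hχ : IndC cs h T X i χ) {x : Y}
    (hx : ∀ g : Y, g⁻¹ * x * g ∉ PJ cs h T X {i}) : χ x = 0 := by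
  obtain ⟨-, ψ, -, -, -, rfl⟩ := hχ
  exact Cfsg.Agent.OddOrderCharacters.IndRes.indFun_eq_zero_of_forall _ _ hx

section

variable (R : RGD cs h p T n X)

include R

/-- Zeros in the torus. -/
theorem IndC.zero_of_free [Finite W] [Fintype Y] (hG : GG cs h T X = ⊤)
    (hTc : ∀ a ∈ T, ∀ b ∈ T, a * b = b * a) {i : I} (hab : ∀ a ∈ X (sr i), ∀ b ∈ X (sr i), a * b = b * a)
    {χ : Y → ℂ} (hχ : IndC cs h T X i χ) {x : Y} (hx : x ∈ T)
    (hfree : ∀ w k, Rp cs R.nsys w k → ∀ u ∈ X (sr i), (k * x * k⁻¹) * u = u * (k * x * k⁻¹) → u = 1) :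
    χ x = 0 := by
  classical
  obtain ⟨-, ψ, hψ, hψV, hc, rfl⟩ := hχ
  refine Cfsg.Agent.OddOrderCharacters.IndRes.indFun_eq_zero_of_forall_apply _ _ fun g hg => ?_
  obtain ⟨a, ha, w, k, hk, u, hu, e⟩ := exists_of_mem_T R hG hTc hx hg
  obtain ⟨u', hu', v, hv, rfl⟩ := (mem_U_iff R (J := {i})).1 hu
  rw [UJ_single] at hu'
  have hT' : k * x * k⁻¹ ∈ T := by
    have := mem_normalizer_iff_cj.1 hk.mem_normalizer
    rw [← this]
    exact conj_mem_cj.2 hx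
  have hXP : X (sr i) ≤ PJ cs h T X {i} := le_trans (X_le_LJ_single i) LJ_le_PJ
  have hTP : T ≤ PJ cs h T X {i} := T_le_PJ _
  -- the value at `y = (k x k⁻¹) u'`
  set y : ↥(PJ cs h T X {i}) := ⟨k * x * k⁻¹ * u', mul_mem (hTP hT') (hXP hu')⟩ with hy
  have h1 : ψ ⟨g⁻¹ * x * g, hg⟩ = ψ y := by
    have h2 := Core.isIrr_isClassFunction hψ ⟨g⁻¹ * x * g, hg⟩ (⟨a, ha⟩ : ↥(PJ cs h T X {i}))⁻¹
    rw [← h2]
    have h3 : ((⟨a, ha⟩ : ↥(PJ cs h T X {i}))⁻¹ * ⟨g⁻¹ * x * g, hg⟩ * ((⟨a, ha⟩ : ↥(PJ cs h T X {i}))⁻¹)⁻¹) =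
        y * ⟨v, VJ_le_PJ hv⟩ := by
      apply Subtype.ext
      change a⁻¹ * (g⁻¹ * x * g) * a⁻¹⁻¹ = k * x * k⁻¹ * u' * v
      rw [inv_inv, e]
      group
    rw [h3]
    exact apply_mul_of_ker (Core.isIrr_isCharacter hψ) (hψV v hv) y
  rw [h1]
  have hf : Fintype ((X (sr i)).subgroupOf (PJ cs h T X {i})) := Fintype.ofFinite _
  have hcon : ∀ u ∈ X (sr i), ∀ t ∈ T, t * u * t⁻¹ ∈ X (sr i) := by
    intro u hu t ht
    have := conj_mem_cj (g := t) |>.2 hu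
    rwa [R.tor _ (isRoot_sr cs h i) t ht] at this
  refine H720.PV.zero_of_regular ((X (sr i)).subgroupOf (PJ cs h T X {i})) hψ hc (fun b => ?_) fun b hb hbc => ?_
  · rw [Subgroup.mem_subgroupOf, Subgroup.mem_subgroupOf]
    change (b : Y) ∈ X (sr i) ↔ k * x * k⁻¹ * u' * (b : Y) * (k * x * k⁻¹ * u')⁻¹ ∈ X (sr i)
    have e1 : k * x * k⁻¹ * u' * (b : Y) * (k * x * k⁻¹ * u')⁻¹ =
        (k * x * k⁻¹) * (u' * b * u'⁻¹) * (k * x * k⁻¹)⁻¹ := by group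
    rw [e1]
    constructor
    · intro hb
      exact hcon _ (mul_mem (mul_mem hu' hb) (inv_mem hu')) _ hT'
    · intro hb
      have h3 := hcon _ hb _ (inv_mem hT')
      have h4 : (k * x * k⁻¹)⁻¹ * ((k * x * k⁻¹) * (u' * b * u'⁻¹) * (k * x * k⁻¹)⁻¹) * ((k * x * k⁻¹)⁻¹)⁻¹ =
          u' * b * u'⁻¹ := by group
      rw [h4] at h3
      have h5 : (b : Y) = u'⁻¹ * (u' * b * u'⁻¹) * u' := by group
      rw [h5]
      exact mul_mem (mul_mem (inv_mem hu') h3) hu'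
  · rw [Subgroup.mem_subgroupOf] at hb
    have h3 : k * x * k⁻¹ * u' * (b : Y) = (b : Y) * (k * x * k⁻¹ * u') := congrArg Subtype.val hbc
    apply Subtype.ext
    refine hfree w k hk b hb ?_
    have h4 := hab u' hu' b hb
    have h5 : k * x * k⁻¹ * (b : Y) * u' = (b : Y) * (k * x * k⁻¹) * u' := by
      calc k * x * k⁻¹ * (b : Y) * u' = k * x * k⁻¹ * ((b : Y) * u') := by group
        _ = k * x * k⁻¹ * (u' * b) := by rw [h4]
        _ = k * x * k⁻¹ * u' * b := by group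
        _ = (b : Y) * (k * x * k⁻¹ * u') := h3
        _ = (b : Y) * (k * x * k⁻¹) * u' := by group
    exact mul_right_cancel h5

/-- **Harish-Chandra induction from a rank one Levi subgroup**, with an orthogonality hypothesis. -/
theorem exists_indC_of_psi [Finite W] [Fintype Y] (hG : GG cs h T X = ⊤) (i : I)
    {ψ : ↥(LJ cs h T X {i}) → ℂ} (hψ : IsIrrCharacter _ ψ)
    (hc : ∀ [Fintype ((X (sr i)).subgroupOf (LJ cs h T X {i}))],
        ∑ u : (X (sr i)).subgroupOf (LJ cs h T X {i}), ψ u = 0)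
    (hs : ∀ w g, Rp cs R.nsys w g → w ∉ WJ cs {i} → rep cs h w (sr i) = sr i →
      ∃ (L : Subgroup Y) (hL : L ≤ LJ cs h T X {i}) (hL' : ∀ l ∈ L, g⁻¹ * l * g ∈ LJ cs h T X {i}),
        ∀ [Fintype L], ∑ l : L, ψ ⟨l, hL l.2⟩ * conj (ψ ⟨g⁻¹ * l * g, hL' l l.2⟩) = 0) :
    ∃ χ : Y → ℂ, IndC cs h T X i χ := by
  classical
  obtain ⟨ψ', hψ', hψL, hψV⟩ := exists_infl R {i} hψ
  refine ⟨indFun (PJ cs h T X {i}) ψ', ?_, ψ', hψ', hψV, ?_, rfl⟩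
  · refine isIrr_indFun_rgd R hG {i} hψ' hψV ?_ ?_
    · intro k hk hf
      obtain rfl : k = i := hk
      have hf' : Fintype ((X (sr k)).subgroupOf (LJ cs h T X {k})) := Fintype.ofFinite _
      rw [← hc]
      refine Fintype.sum_equiv ((MulEquiv.subgroupCongr (rad_single k)).trans
        (Subgroup.subgroupOfEquivOfLe (X_le_LJ_single (T := T) k)).symm).toEquiv _ _ fun u => ?_
      rw [← hψL]
      rfl
    · intro w g hg hw hp
      have hwi : rep cs h w (sr i) = sr i := by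
        obtain ⟨k, hk, e⟩ := hp.2 i (Set.mem_singleton i)
        rw [e, Set.mem_singleton_iff.1 hk]
      obtain ⟨L, hL, hL', hsum⟩ := hs w g hg hw hwi
      refine ⟨L, le_trans hL LJ_le_PJ, fun l hl => LJ_le_PJ (hL' l hl), ?_⟩
      intro hf
      rw [← hsum]
      refine Finset.sum_congr rfl fun l _ => ?_
      rw [hψL _ (hL l.2), hψL _ (hL' l l.2)]
  · intro hf
    have hf' : Fintype ((X (sr i)).subgroupOf (LJ cs h T X {i})) := Fintype.ofFinite _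
    rw [← hc]
    refine Fintype.sum_equiv ((Subgroup.subgroupOfEquivOfLe (le_trans (X_le_LJ_single i) LJ_le_PJ)).trans
      (Subgroup.subgroupOfEquivOfLe (X_le_LJ_single (T := T) i)).symm).toEquiv _ _ fun u => ?_
    rw [← hψL]
    rfl

/-- the case of a central character in general position -/
theorem exists_indC_mul [Finite W] [Fintype Y] (hG : GG cs h T X = ⊤) (hTc : ∀ a ∈ T, ∀ b ∈ T, a * b = b * a) (i : I)
    (hU : 2 ≤ Nat.card (X (sr i))) (f : T →* ℂˣ)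
    (hf : ∀ w g (hg : Rp cs R.nsys w g), w ∉ WJ cs {i} → ∀ hw : rep cs h w (sr i) = sr i,
      ∃ z, ∃ hz : z ∈ CT T X i, f ⟨z, CT_le hz⟩ ≠ f ⟨g⁻¹ * z * g, CT_le (conj_mem_CT R hg hw hz)⟩) :
    ∃ χ : Y → ℂ, IndC cs h T X i χ := by
  classical
  obtain ⟨ψ, hψ, hψc, hψz⟩ := exists_psi R hTc i hU f
  refine exists_indC_of_psi R hG i hψ hψc (by
    intro w g hg hw hwi
    refine ⟨CT T X i, le_trans CT_le T_le_LJ, fun l hl => T_le_LJ (CT_le (conj_mem_CT R hg hwi hl)), ?_⟩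
    intro hfin
    let g1 : CT T X i →* ℂˣ := f.comp (Subgroup.inclusion CT_le)
    let g2 : CT T X i →* ℂˣ := f.comp
      { toFun := fun z => ⟨g⁻¹ * z * g, CT_le (conj_mem_CT R hg hwi z.2)⟩
        map_one' := Subtype.ext (by simp)
        map_mul' := fun a b => Subtype.ext (by
          change g⁻¹ * (a * b) * g = (g⁻¹ * a * g) * (g⁻¹ * b * g)
          group) }
    have h1 : ∀ l : CT T X i, ψ ⟨l, T_le_LJ (CT_le l.2)⟩ *
        conj (ψ ⟨g⁻¹ * l * g, T_le_LJ (CT_le (conj_mem_CT R hg hwi l.2))⟩) =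
        (ψ 1 * conj (ψ 1)) * ((g1 l : ℂ) * conj (g2 l : ℂ)) := by
      intro l
      rw [hψz l l.2, hψz _ (conj_mem_CT R hg hwi l.2), map_mul]
      change (g1 l : ℂ) * ψ 1 * (conj (g2 l : ℂ) * conj (ψ 1)) = _
      ring
    rw [Finset.sum_congr rfl fun l _ => h1 l, ← Finset.mul_sum, sum_conj_hom g1 g2, mul_zero]
    obtain ⟨z, hz, hne⟩ := hf w g hg hw hwi
    exact ⟨⟨z, hz⟩, hne⟩)

/-- the case of an element inverted by the relevant elements -/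
theorem exists_indC_inv [Finite W] [Fintype Y] (hG : GG cs h T X = ⊤) (hTc : ∀ a ∈ T, ∀ b ∈ T, a * b = b * a) (i : I)
    (hU : 2 ≤ Nat.card (X (sr i))) {z : Y} (hz : z ∈ CT T X i) (hz2 : z * z ≠ 1)
    (hinv : ∀ w g, Rp cs R.nsys w g → w ∉ WJ cs {i} → rep cs h w (sr i) = sr i → g⁻¹ * z * g = z⁻¹) :
    ∃ χ : Y → ℂ, IndC cs h T X i χ := by
  obtain ⟨f, hf⟩ := exists_hom_ne_one hTc (T.mul_mem (CT_le hz) (CT_le hz)) hz2
  refine exists_indC_mul R hG hTc i hU f fun w g hg hw hwi => ⟨z, hz, fun he => hf ?_⟩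
  have h1 : f ⟨z * z, T.mul_mem (CT_le hz) (CT_le hz)⟩ = f ⟨z, CT_le hz⟩ * f ⟨z, CT_le hz⟩ := by
    rw [← map_mul]
    rfl
  have h2 : f ⟨g⁻¹ * z * g, CT_le (conj_mem_CT R hg hwi hz)⟩ = (f ⟨z, CT_le hz⟩)⁻¹ := by
    rw [← map_inv]
    congr 1
    exact Subtype.ext (hinv w g hg hw hwi)
  rw [h2] at he
  rw [h1]
  exact mul_eq_one_iff_eq_inv.2 he

end

section G2

variable {W Y : Type*} [Group W] [Group Y] {M : CoxeterMatrix (Fin 2)}
  {cs : CoxeterSystem M W} {A : Fin 2 → Fin 2 → ℤ} {h : IsCartan M A} {p : ℕ} {T : Subgroup Y} {n : Fin 2 → Y}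
  {X : (Fin 2 → ℤ) → Subgroup Y}

variable (R : RGD cs h p T n X)

include R

/-- **The characters for type `G₂`.** -/
theorem exists_indC_G2 [Finite W] [Fintype Y] (hG : GG cs h T X = ⊤) (hTc : ∀ a ∈ T, ∀ b ∈ T, a * b = b * a)
    (hA : A 0 1 * A 1 0 = 3) (hU : 2 ≤ Nat.card (X (sr 0))) {a : Y} (ha : a ∈ T) (ha2 : a * a ≠ 1)
    (hinv : (n 1)⁻¹ * a * n 1 = a⁻¹) (hc : ∀ u ∈ X ![2, -A 1 0], a * u = u * a)
    (hc' : ∀ u ∈ X (-![2, -A 1 0]), a * u = u * a) :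
    ∃ χ : Y → ℂ, IndC cs h T X 0 χ := by
  have hm : Rp cs R.nsys (cs.simple 1 * cs.simple 0) (n 1 * n 0) :=
    (rp_simple cs R.nsys 1).mul (rp_simple cs R.nsys 0)
  have hy : ∀ u ∈ X (sr 0), (n 1 * n 0)⁻¹ * u * (n 1 * n 0) ∈ X ![2, -A 1 0] := by
    intro u hu
    have := R.conj_mem' hm (isRoot_sr cs h 0) hu
    rwa [rep_inv_zero hA] at this
  have hy' : ∀ u ∈ X (-sr 0), (n 1 * n 0)⁻¹ * u * (n 1 * n 0) ∈ X (-![2, -A 1 0]) := by
    intro u hu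
    have := R.conj_mem' hm (isRoot_sr cs h 0).neg hu
    rwa [map_neg, rep_inv_zero hA] at this
  have hzT : (n 1 * n 0) * a * (n 1 * n 0)⁻¹ ∈ T := by
    have h1 := (mem_normalizer_iff_cj.1 hm.mem_normalizer)
    have h2 : (n 1 * n 0) * a * (n 1 * n 0)⁻¹ ∈ cj (n 1 * n 0) T := conj_mem_cj.2 ha
    rwa [h1] at h2
  have hconj : ∀ u, a * ((n 1 * n 0)⁻¹ * u * (n 1 * n 0)) = ((n 1 * n 0)⁻¹ * u * (n 1 * n 0)) * a →
      (n 1 * n 0) * a * (n 1 * n 0)⁻¹ * u = u * ((n 1 * n 0) * a * (n 1 * n 0)⁻¹) := by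
    intro u hu
    calc (n 1 * n 0) * a * (n 1 * n 0)⁻¹ * u =
          (n 1 * n 0) * (a * ((n 1 * n 0)⁻¹ * u * (n 1 * n 0))) * (n 1 * n 0)⁻¹ := by group
      _ = (n 1 * n 0) * (((n 1 * n 0)⁻¹ * u * (n 1 * n 0)) * a) * (n 1 * n 0)⁻¹ := by rw [hu]
      _ = _ := by group
  have hz : (n 1 * n 0) * a * (n 1 * n 0)⁻¹ ∈ CT T X 0 :=
    mem_CT.2 ⟨hzT, fun u hu => hconj u (hc _ (hy u hu)), fun u hu => hconj u (hc' _ (hy' u hu))⟩
  refine exists_indC_inv R hG hTc 0 hU hz ?_ ?_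
  · intro h1
    apply ha2
    have h2 : (n 1 * n 0) * (a * a) * (n 1 * n 0)⁻¹ = 1 := by
      rw [← h1]
      group
    rwa [mul_inv_eq_one, mul_eq_left] at h2
  · intro w g hg hw hwi
    have hwv := eq_vv hA hw hwi
    subst hwv
    have hg1 : Rp cs R.nsys (vv cs) ((n 1 * n 0) * n 1 * (n 1 * n 0)⁻¹) :=
      (hm.mul (rp_simple cs R.nsys 1)).mul hm.inv
    have ht := hg1.unique hg
    set m := n 1 * n 0 with hm0
    set t := (m * n 1 * m⁻¹)⁻¹ * g with ht0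
    have e : g = m * n 1 * m⁻¹ * t := by rw [ht0]; group
    have e1 : (m * n 1 * m⁻¹)⁻¹ * (m * a * m⁻¹) * (m * n 1 * m⁻¹) = (m * a * m⁻¹)⁻¹ := by
      calc (m * n 1 * m⁻¹)⁻¹ * (m * a * m⁻¹) * (m * n 1 * m⁻¹) = m * ((n 1)⁻¹ * a * n 1) * m⁻¹ := by group
        _ = _ := by rw [hinv]; group
    have e2 := hTc _ (inv_mem hzT) _ ht
    calc g⁻¹ * (m * a * m⁻¹) * g = t⁻¹ * ((m * n 1 * m⁻¹)⁻¹ * (m * a * m⁻¹) * (m * n 1 * m⁻¹)) * t := by
          rw [e]; group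
      _ = t⁻¹ * ((m * a * m⁻¹)⁻¹ * t) := by rw [e1, mul_assoc]
      _ = t⁻¹ * (t * (m * a * m⁻¹)⁻¹) := by rw [e2]
      _ = _ := by group

end G2

end Cfsg.Agent.H40.PV
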