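import Cfsg.Agent.H40.PV.Two
import Cfsg.Agent.H40.GGRgd

/-!
# Principal series and regular elements of the torus (helper40, S4555 / S4559)

* `exists_principal` : an irreducible character vanishing outside the conjugates of the Borel subgroup;
* `vz_of_ell_B` : elliptic elements of nontrivial parabolic subgroups are `VZ` elements;
* `vz_of_regular` : elements of the torus without fixed points on `U` are `VZ` elements.
-/

set_option autoImplicit false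
set_option linter.unusedSectionVars false

open scoped ComplexConjugate
open Cfsg

namespace Cfsg.Agent.H40.PV

open CoxeterSystem Cfsg.Agent.ChevalleyStructure.CoxeterGeom Cfsg.Agent.Tits.Roots Cfsg.Agent.Tits.Core
  Cfsg.Agent.Tits.Exchange Cfsg.Agent.Nodes.Reps Cfsg.Agent.Nodes.BNOf Cfsg.Agent.Nodes.StabComb
  Cfsg.Agent.Nodes.Bruhat Cfsg.Agent.Nodes.OppDec Cfsg.Agent.Nodes.LeviDec Cfsg.Agent.H53.HC
  Cfsg.Agent.FixOdd.Cox Cfsg.Agent.KFacts.RgdAut Cfsg.Agent.KFacts.RgdDiag Cfsg.Agent.Characters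
  Cfsg.Agent.H115.HC Cfsg.Agent.OddOrderCharacters.Clifford

variable {I W Y : Type*} [Fintype I] [DecidableEq I] [Group W] [Group Y] {M : CoxeterMatrix I}
  {cs : CoxeterSystem M W} {A : I → I → ℤ} {h : IsCartan M A} {p : ℕ} {T : Subgroup Y} {n : I → Y}
  {X : (I → ℤ) → Subgroup Y}

section

variable (R : RGD cs h p T n X)

include R

theorem conj_mem_T {w : W} {g : Y} (hg : Rp cs R.nsys w g) {t : Y} (ht : t ∈ T) : g⁻¹ * t * g ∈ T := by
  have h1 := (mem_normalizer_iff_cj.1 hg.inv.mem_normalizer)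
  have h2 : g⁻¹ * t * g⁻¹⁻¹ ∈ cj g⁻¹ T := conj_mem_cj.2 ht
  rwa [h1, inv_inv] at h2

/-- **The irreducible principal series.** -/
theorem exists_principal [Finite W] [Fintype Y] (hG : GG cs h T X = ⊤)
    (f : T →* ℂˣ) (hf : ∀ w g (hg : Rp cs R.nsys w g), w ≠ 1 →
      ∃ t, ∃ ht : t ∈ T, f ⟨t, ht⟩ ≠ f ⟨g⁻¹ * t * g, conj_mem_T R hg ht⟩) :
    ∃ χ : IrrCharacter Y, ∀ x : Y, (∀ g : Y, g⁻¹ * x * g ∉ RGD.B cs h T X) → (χ : Y → ℂ) x = 0 := by
  classical
  obtain ⟨π, h1, h2⟩ := exists_projL R (∅ : Set I)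
  have hLT : LJ cs h T X ∅ ≤ T := le_of_eq LJ_empty
  let F : ↥(PJ cs h T X ∅) →* ℂˣ := f.comp ((Subgroup.inclusion hLT).comp π)
  have hF : ∀ (t : Y) (ht : t ∈ T), F ⟨t, T_le_PJ _ ht⟩ = f ⟨t, ht⟩ := by
    intro t ht
    change f (Subgroup.inclusion hLT (π ⟨t, _⟩)) = _
    rw [h1 t (T_le_LJ ht)]
    rfl
  let ψ : ↥(PJ cs h T X ∅) → ℂ := fun x => (F x : ℂ)
  have hψ : IsIrrCharacter _ ψ := Cfsg.Agent.Characters.Linear.isIrrCharacter_hom F
  have hirr : IsIrrCharacter Y (indFun (PJ cs h T X ∅) ψ) := by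
    refine isIrr_indFun_rgd R hG ∅ hψ ?_ (fun i hi => absurd hi (Set.notMem_empty i)) ?_
    · intro v hv
      change ((F ⟨v, _⟩ : ℂˣ) : ℂ) = ((F 1 : ℂˣ) : ℂ)
      rw [map_one]
      change ((f (Subgroup.inclusion hLT (π ⟨v, _⟩)) : ℂˣ) : ℂ) = _
      rw [h2 v hv, map_one, map_one]
    · intro w g hg hw _
      have hw1 : w ≠ 1 := by
        rintro rfl
        exact hw (one_mem _)
      refine ⟨T, T_le_PJ _, fun l hl => T_le_PJ _ (conj_mem_T R hg hl), ?_⟩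
      intro hfin
      let g2 : T →* ℂˣ := f.comp
        { toFun := fun z => ⟨g⁻¹ * z * g, conj_mem_T R hg z.2⟩
          map_one' := Subtype.ext (by simp)
          map_mul' := fun a b => Subtype.ext (by
            change g⁻¹ * (a * b) * g = (g⁻¹ * a * g) * (g⁻¹ * b * g)
            group) }
      have h3 : ∀ l : T, ψ ⟨l, T_le_PJ _ l.2⟩ * conj (ψ ⟨g⁻¹ * l * g, T_le_PJ _ (conj_mem_T R hg l.2)⟩) =
          (f l : ℂ) * conj (g2 l : ℂ) := by
        intro l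
        change ((F ⟨l, _⟩ : ℂˣ) : ℂ) * conj ((F ⟨g⁻¹ * l * g, _⟩ : ℂˣ) : ℂ) = _
        rw [hF l l.2, hF _ (conj_mem_T R hg l.2)]
        rfl
      rw [Finset.sum_congr rfl fun l _ => h3 l]
      refine sum_conj_hom f g2 ?_
      obtain ⟨t, ht, hne⟩ := hf w g hg hw1
      exact ⟨⟨t, ht⟩, hne⟩
  refine ⟨⟨_, hirr⟩, fun x hx => ?_⟩
  exact Cfsg.Agent.OddOrderCharacters.IndRes.indFun_eq_zero_of_forall _ _ fun g hg =>
    hx g (mem_B_of_mem_PJ_empty R hg)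

/-- **Elliptic elements**, principal series. -/
theorem vz_of_ell_B [Finite W] [Fintype Y] [Fact p.Prime] (hG : GG cs h T X = ⊤) {χ : IrrCharacter Y}
    (hχ : ∀ x : Y, (∀ g : Y, g⁻¹ * x * g ∉ RGD.B cs h T X) → (χ : Y → ℂ) x = 0) {K : Set I} (hK : K.Nonempty)
    {x : Y} (hx : Ell cs h T X K x) : H713.VZ Y x := by
  refine ⟨χ, fun α => ?_⟩
  obtain ⟨g, σ, D, -, -, -, hP⟩ := PV.exists_aut R hG α
  have hE := hx.aut hP
  rw [apply_aut χ.2 g]
  refine hχ _ fun y hy => ?_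
  obtain ⟨K₁, hK₁, w, -, h2, -⟩ := hE.exists_conj R hG (J := ∅) (g := y) (B_le_PJ hy)
  obtain ⟨k, hk⟩ := hK
  obtain ⟨j, hj, -⟩ := h2 (σ k) ⟨k, hk, rfl⟩
  exact hK₁ hj

/-- **Regular elements of the torus.** -/
theorem vz_of_regular [Finite W] [Finite Y] [hp : Fact p.Prime] [Nonempty I]
    (hG : Nodes.RGDLib.G1 cs h X = ⊤) (hZ : Subgroup.center Y = ⊥) {x : Y} (hx : x ∈ T)
    (hC : ∀ y, IsRoot cs h y → 0 ≤ y → ∀ u ∈ X y, x * u = u * x → u = 1) : H713.VZ Y x := by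
  have hcore : (RGD.B cs h T X).normalCore = ⊥ := by
    rw [eq_bot_iff, ← hZ]
    exact H163.SteinbergRGD.core_le_center R hG
  have hgen : RGD.B cs h T X ⊔ NN cs R.nsys = ⊤ := by
    rw [eq_top_iff, ← hG]
    exact Nodes.RGDLib.rgd_G1_le R
  obtain ⟨i⟩ := (inferInstance : Nonempty I)
  refine H720.PV.vz_of_split (FixBN.SplitRGD.split_of_rgd hp.out R hgen hcore) ⟨n i, i, rfl⟩ (fun u => ?_)
    fun u hu hc => ?_
  · exact Subgroup.mem_normalizer_iff.1 (R.T_le_normalizer_U hx) u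
  · refine GGR.cent_U R (Subgroup.zpowers x) (by rw [Subgroup.zpowers_le]; exact hx)
      (fun y hy hy0 v hv hq => hC y hy hy0 v hv (hq x (Subgroup.mem_zpowers x))) u hu ?_
    rintro _ ⟨k, rfl⟩
    have h1 : Commute x u := hc
    exact (h1.zpow_left k).eq

end

end Cfsg.Agent.H40.PV
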