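import Cfsg.Agent.H40.PV.One
import Cfsg.Agent.ClassicalGeometry.PSL2Basic

/-!
# `VZ` elements in groups with a root group datum (helper40, S4555 / S4559)

* `vz_of_ell` : an elliptic element of a rank one parabolic subgroup;
* `vz_of_free` : an element of the torus;
* `ell_of_sl2` : elliptic elements from `SL_2(F)`;
* `exists_nosplit`, `nosplit_four` : elements of `SL_2(F)` not conjugate to upper triangular ones.
-/

set_option autoImplicit false
set_option linter.unusedSectionVars false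

open scoped ComplexConjugate
open Cfsg

namespace Cfsg.Agent.H40.PV

open CoxeterSystem Cfsg.Agent.ChevalleyStructure.CoxeterGeom Cfsg.Agent.Tits.Roots Cfsg.Agent.Tits.Core
  Cfsg.Agent.Tits.Exchange Cfsg.Agent.Nodes.Reps Cfsg.Agent.Nodes.BNOf Cfsg.Agent.Nodes.StabComb
  Cfsg.Agent.Nodes.Bruhat Cfsg.Agent.Nodes.OppDec Cfsg.Agent.Nodes.LeviDec Cfsg.Agent.H53.HC
  Cfsg.Agent.FixOdd.Cox Cfsg.Agent.KFacts.RgdAut Cfsg.Agent.KFacts.RgdDiag Cfsg.Agent.Characters
  Cfsg.Agent.H115.HC Cfsg.Agent.OddOrderCharacters.Clifford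

variable {I W Y : Type*} [Fintype I] [DecidableEq I] [Group W] [Group Y] {M : CoxeterMatrix I}
  {cs : CoxeterSystem M W} {A : I → I → ℤ} {h : IsCartan M A} {p : ℕ} {T : Subgroup Y} {n : I → Y}
  {X : (I → ℤ) → Subgroup Y}

theorem apply_aut [Finite Y] {χ : Y → ℂ} (hχ : IsIrrCharacter Y χ) (g : Y) (α : MulAut Y) (x : Y) :
    χ (α x) = χ ((MulAut.conj g * α) x) := by
  rw [MulAut.mul_apply, MulAut.conj_apply]
  exact (Core.isIrr_isClassFunction hχ (α x) g).symm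

section

variable (R : RGD cs h p T n X)

include R

/-- **Elliptic elements.** -/
theorem vz_of_ell [Finite W] [Fintype Y] [Fact p.Prime] (hG : GG cs h T X = ⊤) {i j : I}
    (hσ : ∀ (β : MulAut Y) (σ : Equiv.Perm I), Diag T X β σ → σ j = j) {χ : Y → ℂ} (hχ : IndC cs h T X i χ)
    {x : Y} (hx : Ell cs h T X {j} x) (hij : ∀ w, rep cs h w (sr j) ≠ sr i) : H713.VZ Y x := by
  refine ⟨⟨χ, hχ.1⟩, fun α => ?_⟩
  obtain ⟨g, σ, D, -, -, -, hP⟩ := PV.exists_aut R hG α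
  have hE := hx.aut hP
  rw [Set.image_singleton, hσ _ _ D] at hE
  change χ (α x) = 0
  rw [apply_aut hχ.1 g]
  refine hχ.zero_of_not_mem fun y hy => ?_
  obtain ⟨K₁, hK₁, w, -, h2, -⟩ := hE.exists_conj R hG hy
  obtain ⟨j', hj', e⟩ := h2 j rfl
  exact hij w (e.trans (by rw [Set.mem_singleton_iff.1 (hK₁ hj')]))

/-- **Elements of the torus.** -/
theorem vz_of_free [Finite W] [Fintype Y] [Fact p.Prime] (hG : GG cs h T X = ⊤)
    (hTc : ∀ a ∈ T, ∀ b ∈ T, a * b = b * a) {i : I} (hab : ∀ a ∈ X (sr i), ∀ b ∈ X (sr i), a * b = b * a)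
    (hσ : ∀ (β : MulAut Y) (σ : Equiv.Perm I), Diag T X β σ → σ = 1) {χ : Y → ℂ} (hχ : IndC cs h T X i χ)
    {x : Y} (hx : x ∈ T)
    (hfree : ∀ w, ∀ u ∈ X (rep cs h w (sr i)), x * u = u * x → u = 1) : H713.VZ Y x := by
  refine ⟨⟨χ, hχ.1⟩, fun α => ?_⟩
  obtain ⟨g, σ, D, -, -, -, -⟩ := PV.exists_aut R hG α
  obtain rfl := hσ _ _ D
  change χ (α x) = 0
  rw [apply_aut hχ.1 g]
  set β := MulAut.conj g * α with hβ
  refine hχ.zero_of_free R hG hTc hab ((D.tor x).2 hx) fun w k hk u hu hc => ?_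
  -- `k⁻¹ u k` lies in the root group of `w⁻¹ α_i` and commutes with `β x`
  have h1 := R.conj_mem' hk (isRoot_sr cs h i) hu
  obtain ⟨v, hv⟩ := β.surjective (k⁻¹ * u * k)
  rw [← hv] at h1
  have h2 : v ∈ X (rep cs h w⁻¹ (sr i)) := by
    refine (D.root_comp R (fun _ _ => rfl) ((isRoot_sr cs h i).act w⁻¹) v).1 ?_
    exact h1
  have h3 : β x * β v = β v * β x := by
    rw [hv]
    have e1 : k⁻¹ * (k * β x * k⁻¹ * u) * k = k⁻¹ * (u * (k * β x * k⁻¹)) * k := by rw [hc]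
    calc β x * (k⁻¹ * u * k) = k⁻¹ * (k * β x * k⁻¹ * u) * k := by group
      _ = k⁻¹ * (u * (k * β x * k⁻¹)) * k := e1
      _ = (k⁻¹ * u * k) * β x := by group
  rw [← map_mul, ← map_mul] at h3
  have h4 := hfree w⁻¹ v h2 (β.injective h3)
  rw [h4, map_one] at hv
  have h5 : u = k * (k⁻¹ * u * k) * k⁻¹ := by group
  rw [h5, ← hv, mul_one, mul_inv_cancel]

end

/-! ### elements of `SL_2(F)` -/

section sl2

variable {F : Type*} [Field F]

theorem sl_eq_up_lo_up {a b c d : F} (hc : c ≠ 0) (hdet : a * d - b * c = 1) :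
    (!![a, b; c, d] : Matrix (Fin 2) (Fin 2) F) =
      !![1, (a - 1) / c; 0, 1] * !![1, 0; c, 1] * !![1, (d - 1) / c; 0, 1] := by
  have hb : b = (a * d - 1) / c := by
    rw [eq_div_iff hc]
    linear_combination -hdet
  ext i j
  fin_cases i <;> fin_cases j
  · simp [hc]
  · simp [hc, hb]
    field_simp
    ring
  · simp
  · simp
    field_simp
    ring

/-- upper and lower unitriangular matrices -/
def up' (t : F) : Matrix.SpecialLinearGroup (Fin 2) F := ⟨!![1, t; 0, 1], by simp [Matrix.det_fin_two]⟩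

def lo' (t : F) : Matrix.SpecialLinearGroup (Fin 2) F := ⟨!![1, 0; t, 1], by simp [Matrix.det_fin_two]⟩

theorem eq_up_lo_up {B : Matrix.SpecialLinearGroup (Fin 2) F} (hc : B 1 0 ≠ 0) :
    ∃ x y, B = up' x * lo' (B 1 0) * up' y := by
  refine ⟨(B 0 0 - 1) / B 1 0, (B 1 1 - 1) / B 1 0, ?_⟩
  apply Subtype.ext
  have hdet : B 0 0 * B 1 1 - B 0 1 * B 1 0 = 1 := by
    have := B.2
    rwa [Matrix.det_fin_two] at this
  have h1 : (B : Matrix (Fin 2) (Fin 2) F) = !![B 0 0, B 0 1; B 1 0, B 1 1] := by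
    ext i j
    fin_cases i <;> fin_cases j <;> rfl
  change (B : Matrix (Fin 2) (Fin 2) F) = !![1, (B 0 0 - 1) / B 1 0; 0, 1] * !![1, 0; B 1 0, 1] *
    !![1, (B 1 1 - 1) / B 1 0; 0, 1]
  rw [← sl_eq_up_lo_up hc hdet]
  exact h1

/-- no conjugate of `A` is upper triangular -/
def NoSplit (A : Matrix.SpecialLinearGroup (Fin 2) F) : Prop :=
  ∀ C : Matrix.SpecialLinearGroup (Fin 2) F, (C⁻¹ * A * C) 1 0 ≠ 0

/-- powers of upper triangular matrices -/
theorem pow_upper {B : Matrix.SpecialLinearGroup (Fin 2) F} (hB : B 1 0 = 0) (k : ℕ) :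
    (B ^ k) 1 0 = 0 ∧ (B ^ k) 0 0 = (B 0 0) ^ k ∧ (B ^ k) 1 1 = (B 1 1) ^ k := by
  induction k with
  | zero => simp
  | succ k ih =>
    obtain ⟨h1, h2, h3⟩ := ih
    have e : ∀ i j, (B ^ (k + 1)) i j = (B ^ k) i 0 * B 0 j + (B ^ k) i 1 * B 1 j := by
      intro i j
      rw [pow_succ]
      change ((B ^ k : Matrix.SpecialLinearGroup (Fin 2) F).1 * B.1) i j = _
      rw [Matrix.mul_apply, Fin.sum_univ_two]
    refine ⟨?_, ?_, ?_⟩
    · rw [e, h1, hB]; ring
    · rw [e, hB, h2]; ring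
    · rw [e, h1, h3]; ring

/-- An upper triangular matrix has order dividing `(q - 1) r`. -/
theorem upper_pow_eq_one [Finite F] {r : ℕ} [CharP F r] {B : Matrix.SpecialLinearGroup (Fin 2) F}
    (hB : B 1 0 = 0) : B ^ ((Nat.card F - 1) * r) = 1 := by
  have hdet : B 0 0 * B 1 1 = 1 := by
    have := B.2
    rw [Matrix.det_fin_two] at this
    change B 0 0 * B 1 1 - B 0 1 * B 1 0 = 1 at this
    rwa [hB, mul_zero, sub_zero] at this
  have h0 : B 0 0 ≠ 0 := fun h0 => by rw [h0, zero_mul] at hdet; exact zero_ne_one hdet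
  have h1 : B 1 1 ≠ 0 := fun h0 => by rw [h0, mul_zero] at hdet; exact zero_ne_one hdet
  have := Fintype.ofFinite F
  obtain ⟨k1, k2, k3⟩ := pow_upper hB (Nat.card F - 1)
  set C := B ^ (Nat.card F - 1) with hC
  have e0 : C 0 0 = 1 := by rw [k2, Nat.card_eq_fintype_card, FiniteField.pow_card_sub_one_eq_one _ h0]
  have e1 : C 1 1 = 1 := by rw [k3, Nat.card_eq_fintype_card, FiniteField.pow_card_sub_one_eq_one _ h1]
  have key : ∀ m : ℕ, (C ^ m) 0 1 = m * C 0 1 := by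
    intro m
    induction m with
    | zero => simp
    | succ m ih =>
      obtain ⟨l1, l2, l3⟩ := pow_upper k1 m
      rw [pow_succ]
      change ((C ^ m : Matrix.SpecialLinearGroup (Fin 2) F).1 * C.1) 0 1 = _
      rw [Matrix.mul_apply, Fin.sum_univ_two]
      change (C ^ m) 0 0 * C 0 1 + (C ^ m) 0 1 * C 1 1 = _
      rw [l2, e0, ih, e1]
      push_cast
      ring
  obtain ⟨l1, l2, l3⟩ := pow_upper k1 r
  rw [pow_mul, ← hC]
  apply Subtype.ext
  ext i j
  fin_cases i <;> fin_cases j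
  · change (C ^ r) 0 0 = (1 : Matrix (Fin 2) (Fin 2) F) 0 0
    rw [l2, e0, one_pow]; simp
  · change (C ^ r) 0 1 = (1 : Matrix (Fin 2) (Fin 2) F) 0 1
    rw [key, CharP.cast_eq_zero, zero_mul]; simp
  · change (C ^ r) 1 0 = (1 : Matrix (Fin 2) (Fin 2) F) 1 0
    rw [l1]; simp
  · change (C ^ r) 1 1 = (1 : Matrix (Fin 2) (Fin 2) F) 1 1
    rw [l3, e1, one_pow]; simp

/-- Elements of order not dividing `(q - 1) r` are not split. -/
theorem noSplit_of_order [Finite F] {r : ℕ} [CharP F r] {A : Matrix.SpecialLinearGroup (Fin 2) F}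
    (hA : ¬ orderOf A ∣ (Nat.card F - 1) * r) : NoSplit A := by
  intro C hC
  apply hA
  apply orderOf_dvd_of_pow_eq_one
  have h1 := upper_pow_eq_one (r := r) hC
  rw [show C⁻¹ * A * C = C⁻¹ * A * C⁻¹⁻¹ by rw [inv_inv], conj_pow, inv_inv] at h1
  have h2 : A ^ ((Nat.card F - 1) * r) = C * (C⁻¹ * A ^ ((Nat.card F - 1) * r) * C) * C⁻¹ := by group
  rw [h2, h1]
  group

/-- elements of order `p ∣ q + 1` -/
theorem exists_noSplit [Finite F] {p : ℕ} (hp : p.Prime) (h2 : p ≠ 2) (hd : p ∣ Nat.card F + 1) :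
    ∃ A : Matrix.SpecialLinearGroup (Fin 2) F, orderOf A = p ∧ NoSplit A := by
  classical
  have := Fintype.ofFinite F
  obtain ⟨r, hch⟩ := CharP.exists F
  have hr : r.Prime := CharP.char_is_prime F r
  have hq : 1 < Nat.card F := Finite.one_lt_card
  have := Fact.mk hp
  have hfin : Finite (Matrix.SpecialLinearGroup (Fin 2) F) := inferInstance
  have hcard := Cfsg.Agent.ClassicalGeometry.PSL2Basic.card_SL2 (F := F)
  rw [← Nat.card_eq_fintype_card] at hcard
  obtain ⟨A, hA⟩ := exists_prime_orderOf_dvd_card' (G := Matrix.SpecialLinearGroup (Fin 2) F) p (by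
    rw [hcard]
    refine Dvd.dvd.mul_left ?_ _
    obtain ⟨m, hm⟩ := Nat.exists_eq_add_of_lt hq
    rw [hm] at hd ⊢
    have e : (1 + m + 1) ^ 2 - 1 = (1 + m + 1 + 1) * (1 + m) := by
      rw [show (1 + m + 1) ^ 2 = (1 + m + 1 + 1) * (1 + m) + 1 by ring]
      rfl
    rw [e]
    exact hd.mul_right _)
  refine ⟨A, hA, noSplit_of_order (r := r) ?_⟩
  rw [hA, hp.dvd_mul, not_or]
  constructor
  · intro h1
    have h3 : p ∣ 2 := by
      have h4 := Nat.dvd_sub hd h1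
      have h5 : Nat.card F + 1 - (Nat.card F - 1) = 2 := by omega
      rwa [h5] at h4
    exact h2 ((Nat.prime_dvd_prime_iff_eq hp Nat.prime_two).1 h3)
  · intro h1
    have h3 := (Nat.prime_dvd_prime_iff_eq hp hr).1 h1
    subst h3
    have h4 : p ∣ Nat.card F := by
      obtain ⟨m, -, hm⟩ := FiniteField.card F p
      rw [Nat.card_eq_fintype_card, hm]
      exact dvd_pow_self p m.2.ne'
    exact hp.one_lt.ne' (Nat.dvd_one.1 ((Nat.dvd_add_right h4).1 hd))

/-- elements of order four, `q ≡ 3` modulo 4 -/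
theorem exists_noSplit_four [Finite F] (h4 : Nat.card F % 4 = 3) :
    ∃ A : Matrix.SpecialLinearGroup (Fin 2) F, A ^ 4 = 1 ∧ NoSplit A := by
  classical
  have := Fintype.ofFinite F
  obtain ⟨r, hch⟩ := CharP.exists F
  have hr : r.Prime := CharP.char_is_prime F r
  have := Fact.mk hr
  obtain ⟨m, -, hm⟩ := FiniteField.card F r
  rw [← Nat.card_eq_fintype_card] at hm
  have hr2 : r ≠ 2 := by
    rintro rfl
    obtain ⟨k, hk⟩ : 2 ∣ Nat.card F := by
      rw [hm]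
      exact dvd_pow_self 2 m.2.ne'
    omega
  have h2F : (2 : F) ≠ 0 := by
    intro h0
    have h1 : ((2 : ℕ) : F) = 0 := by exact_mod_cast h0
    have h3 := (CharP.cast_eq_zero_iff F r 2).1 h1
    exact hr2 ((Nat.prime_dvd_prime_iff_eq hr Nat.prime_two).1 h3)
  let A : Matrix.SpecialLinearGroup (Fin 2) F := ⟨!![0, 1; -1, 0], by simp [Matrix.det_fin_two]⟩
  have hA2 : (A ^ 2 : Matrix.SpecialLinearGroup (Fin 2) F).1 = !![-1, 0; 0, -1] := by
    rw [pow_two]
    change !![0, 1; -1, 0] * !![0, 1; -1, 0] = (!![-1, 0; 0, -1] : Matrix (Fin 2) (Fin 2) F)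
    ext i j
    fin_cases i <;> fin_cases j <;> simp
  have hA4 : A ^ 2 ^ (1 + 1) = 1 := by
    apply Subtype.ext
    have e : A ^ 2 ^ (1 + 1) = A ^ 2 * A ^ 2 := by
      rw [← pow_add]
      rfl
    rw [e]
    change (A ^ 2 : Matrix.SpecialLinearGroup (Fin 2) F).1 * (A ^ 2 : Matrix.SpecialLinearGroup (Fin 2) F).1 = 1
    rw [hA2]
    ext i j
    fin_cases i <;> fin_cases j <;> simp
  have := Fact.mk Nat.prime_two
  have hord : orderOf A = 2 ^ (1 + 1) := by
    refine orderOf_eq_prime_pow ?_ hA4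
    intro h1
    rw [pow_one] at h1
    have h3 : (A ^ 2 : Matrix.SpecialLinearGroup (Fin 2) F).1 0 0 = 1 := by rw [h1]; simp
    rw [hA2] at h3
    change (-1 : F) = 1 at h3
    apply h2F
    have : (2 : F) = 1 + 1 := by norm_num
    rw [this]
    nth_rw 1 [← h3]
    exact neg_add_cancel 1
  refine ⟨A, hA4, noSplit_of_order (r := r) ?_⟩
  rw [hord]
  have hrodd : r % 2 = 1 := hr.eq_two_or_odd.resolve_left hr2
  intro hdvd
  obtain ⟨k, hk⟩ := hdvd
  obtain ⟨a, ha⟩ : ∃ a, Nat.card F = 4 * a + 3 := ⟨Nat.card F / 4, by omega⟩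
  obtain ⟨b, hb⟩ : ∃ b, r = 2 * b + 1 := ⟨r / 2, by omega⟩
  rw [ha, hb] at hk
  have e : (4 * a + 3 - 1) * (2 * b + 1) = 4 * (2 * a * b + a + b) + 2 := by
    have : 4 * a + 3 - 1 = 4 * a + 2 := by omega
    rw [this]
    ring
  omega

end sl2

section ell

variable (R : RGD cs h p T n X)

include R

/-- **Elliptic elements from `SL_2(F)`.** -/
theorem ell_of_sl2 [Finite W] {F : Type*} [Field F] {j : I} (φ : Matrix.SpecialLinearGroup (Fin 2) F →* Y)
    (hup : ∀ t, φ (up' t) ∈ X (sr j)) (hlo : ∀ t, φ (lo' t) ∈ X (-sr j))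
    (hup' : ∀ u ∈ X (sr j), ∃ t, u = φ (up' t)) (hlo' : ∀ u ∈ X (-sr j), ∃ t, u = φ (lo' t))
    (hinj : ∀ t, t ≠ 0 → φ (lo' t) ≠ 1) {A : Matrix.SpecialLinearGroup (Fin 2) F} (hA : NoSplit A) :
    Ell cs h T X {j} (φ A) := by
  have hMr : MJ cs h X {j} ≤ φ.range := by
    refine RGD.Sup_le fun x hx => ?_
    rcases hx.1.pos_or_neg with h0 | h0
    · have h2 : x = sr j := by
        have : x ∈ PosJ cs h {j} := ⟨hx.1, h0, hx.2⟩
        rw [PosJ_single] at this
        exact this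
      intro u hu
      rw [h2] at hu
      obtain ⟨t, rfl⟩ := hup' u hu
      exact ⟨_, rfl⟩
    · have h2 : x = -sr j := by
        have : -x ∈ PosJ cs h {j} := ⟨hx.1.neg, neg_nonneg.2 h0, fun k hk => by
          rw [Pi.neg_apply, hx.2 k hk, neg_zero]⟩
        rw [PosJ_single] at this
        rw [← Set.mem_singleton_iff.1 this, neg_neg]
      intro u hu
      rw [h2] at hu
      obtain ⟨t, rfl⟩ := hlo' u hu
      exact ⟨_, rfl⟩
  have hXn : X (-sr j) ≤ LJ cs h T X {j} := by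
    refine X_le_LJ ⟨(isRoot_sr cs h j).neg, fun k hk => ?_⟩
    rw [Pi.neg_apply, sr_ne (fun e => hk (Set.mem_singleton_iff.2 e)), neg_zero]
  have hmem : ∀ B : Matrix.SpecialLinearGroup (Fin 2) F, B 1 0 ≠ 0 → φ B ∉ RGD.B cs h T X ∧
      φ B ∈ LJ cs h T X {j} := by
    intro B hB
    obtain ⟨x, y, e⟩ := eq_up_lo_up hB
    have hXB : X (sr j) ≤ RGD.B cs h T X := RGD.X_le_B (isRoot_sr cs h j) (sr_nonneg j)
    constructor
    · intro hm
      rw [e, map_mul, map_mul] at hm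
      have h1 : φ (lo' (B 1 0)) ∈ RGD.B cs h T X := by
        have h2 := mul_mem (mul_mem (inv_mem (hXB (hup x))) hm) (inv_mem (hXB (hup y)))
        have h3 : (φ (up' x))⁻¹ * (φ (up' x) * φ (lo' (B 1 0)) * φ (up' y)) * (φ (up' y))⁻¹ = φ (lo' (B 1 0)) := by
          group
        rwa [h3] at h2
      refine hinj _ hB (eq_one_of_mem_UN_of_mem_B R ?_ h1)
      exact X_le_UN (isRoot_sr cs h j).neg (neg_nonpos.2 (sr_nonneg j)) (hlo _)
    · rw [e, map_mul, map_mul]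
      exact mul_mem (mul_mem (X_le_LJ_single j (hup x)) (hXn (hlo _))) (X_le_LJ_single j (hup y))
  have hAL : φ A ∈ LJ cs h T X {j} := by
    refine (hmem A ?_).2
    have := hA 1
    rwa [inv_one, one_mul, mul_one] at this
  refine ⟨LJ_le_PJ hAL, fun g hg K' hK' hgK => ?_⟩
  by_contra hne
  have hK0 : K' = ∅ := by
    rcases Set.subset_singleton_iff_eq.1 hK' with h1 | h1
    · exact h1
    · exact absurd h1 hne
  subst hK0
  have hgB := mem_B_of_mem_PJ_empty R hgK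
  obtain ⟨l, hl, v, hv, rfl⟩ := (mem_PJ R).1 hg
  obtain ⟨m, hm, t, ht, rfl⟩ := (mem_LJ_iff_mul' R {j}).1 hl
  obtain ⟨C, rfl⟩ := hMr hm
  have hvB := VJ_le_B (T := T) _ hv
  have htB : t ∈ RGD.B cs h T X := RGD.T_le_B ht
  have h1 : φ (C⁻¹ * A * C) ∈ RGD.B cs h T X := by
    have h2 := mul_mem (mul_mem (mul_mem htB hvB) hgB) (inv_mem (mul_mem htB hvB))
    have h3 : t * v * ((φ C * t * v)⁻¹ * φ A * (φ C * t * v)) * (t * v)⁻¹ = φ (C⁻¹ * A * C) := by
      rw [map_mul, map_mul, map_inv]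
      group
    rwa [h3] at h2
  exact (hmem _ (hA C)).1 h1

end ell

end Cfsg.Agent.H40.PV
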